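import Cfsg.Agent.Lib.Techniques.CharTransfer.Module

/-!
The image of a minimal failure in the automorphisms of its module.
-/

set_option autoImplicit false
set_option linter.unusedSectionVars false
set_option linter.style.haveILetI false

namespace CfsgLib.CharTransfer

open CfsgLib.LocalEven.PGV CfsgLib.LocalEven.OffenderSL2 CfsgLib.LocalEven.MinPar
open CfsgLib.LocalEven.MinPar.Bridge
open CfsgLib.PLocal
open CfsgLib.Techniques.Fusion
open Subgroup
open scoped IsMulCommutative

universe u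

variable {X : Type u} [Group X] {V : Subgroup X} [IsMulCommutative ↥V]

/-- Conjugation on a normal abelian subgroup. -/
def actHom (hV : V.Normal) : X →* Γ (Additive ↥V) :=
  (act (V := V) (P := (⊤ : Subgroup X)) (by rw [normalizer_eq_top_iff.2 hV])).comp
    Subgroup.topEquiv.symm.toMonoidHom

theorem actHom_coe (hV : V.Normal) (g : X) (v : Additive ↥V) :
    (((actHom hV g • v : Additive ↥V).toMul : ↥V) : X) = g * (v.toMul : X) * g⁻¹ :=
  act_apply _ _ v

theorem actHom_fix_iff (hV : V.Normal) (g : X) (v : Additive ↥V) :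
    actHom hV g • v = v ↔ g * (v.toMul : X) = (v.toMul : X) * g :=
  act_fix_iff _ _ v

theorem actHom_eq_one_iff (hV : V.Normal) {g : X} :
    actHom hV g = 1 ↔ g ∈ centralizer (V : Set X) := by
  refine ⟨fun h => mem_centralizer_iff.2 fun v hv => ?_, fun h => ext_smul fun v => ?_⟩
  · exact ((actHom_fix_iff hV g (Additive.ofMul ⟨v, hv⟩)).1 (by rw [h, one_smul])).symm
  · rw [one_smul, actHom_fix_iff hV]
    exact (mem_centralizer_iff.1 h _ v.toMul.2).symm

theorem mem_fix_map_iff (hV : V.Normal) (A : Subgroup X) (v : Additive ↥V) :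
    v ∈ fix (A.map (actHom hV)) ↔ (v.toMul : X) ∈ centralizer (A : Set X) := by
  refine ⟨fun h => mem_centralizer_iff.2 fun a ha => (actHom_fix_iff hV a v).1 (h _ ⟨a, ha, rfl⟩),
    fun h => ?_⟩
  rintro _ ⟨a, ha, rfl⟩
  exact (actHom_fix_iff hV a v).2 (mem_centralizer_iff.1 h a ha)

theorem card_fix_map' (hV : V.Normal) (A : Subgroup X) :
    Nat.card (fix (A.map (actHom hV))) = Nat.card ↥(V ⊓ centralizer (A : Set X)) :=
  Nat.card_congr
    { toFun := fun v => ⟨((v : Additive ↥V).toMul : X),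
        (v : Additive ↥V).toMul.2, (mem_fix_map_iff hV A _).1 v.2⟩
      invFun := fun v => ⟨Additive.ofMul ⟨v, v.2.1⟩, (mem_fix_map_iff hV A _).2 v.2.2⟩
      left_inv := fun _ => rfl
      right_inv := fun _ => rfl }

theorem card_eq_map_mul [Finite X] (hV : V.Normal) (A : Subgroup X) :
    Nat.card A = Nat.card (A.map (actHom hV)) * Nat.card ↥(A ⊓ centralizer (V : Set X)) := by
  set f := (actHom hV).comp A.subtype with hf
  have hr : f.range = A.map (actHom hV) := by
    rw [hf, MonoidHom.range_comp, range_subtype]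
  have hk : f.ker = (centralizer (V : Set X)).subgroupOf A := by
    ext a
    rw [MonoidHom.mem_ker, mem_subgroupOf]
    exact actHom_eq_one_iff hV
  rw [← hr, ← Subgroup.index_ker f, hk, ← inf_subgroupOf_left,
    ← Nat.card_congr (subgroupOfEquivOfLe (inf_le_left : A ⊓ centralizer (V : Set X) ≤ A)).toEquiv,
    mul_comm, card_mul_index]

variable [Finite X] {p : ℕ} [Fact p.Prime] {𝓦 : Set (∀ (Q : Type u) [Group Q], Subgroup Q)}
  {S : Sylow p X}

section Core

variable (hmf : IsMinimalFailure p 𝓦 S) (hmov : ∃ z ∈ ZS S, ∃ g : X, g * z ≠ z * g)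
include hmov

/-- The centralizer of the module does not supplement `S`. -/
theorem centralizer_sup_ne_top_of_moved : centralizer (VS S : Set X) ⊔ (S : Subgroup X) ≠ ⊤ := by
  intro e
  obtain ⟨z, hz, g, hg⟩ := hmov
  have hle : centralizer (VS S : Set X) ⊔ (S : Subgroup X) ≤ centralizer ({z} : Set X) :=
    sup_le (centralizer_le (Set.singleton_subset_iff.2 (Subgroup.subset_normalClosure hz)))
      fun s hs => mem_centralizer_singleton_iff.2 ((mem_ZS hz).2 s hs)
  exact hg (mem_centralizer_singleton_iff.1 (hle (e ▸ mem_top g)))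

include hmf

/-- The elements of `S` centralizing the module form the core. -/
theorem inf_centralizer_of_moved :
    (S : Subgroup X) ⊓ centralizer (VS S : Set X) = Cfsg.pCore p X := by
  haveI := VS_normal (S := S)
  refine le_antisymm (inf_le_pCore hmf (centralizer_sup_ne_top_of_moved hmov))
    (le_inf (CfsgLib.PCore.pCore_le_sylow S) fun x hx => mem_centralizer_iff.2 fun v hv => ?_)
  exact (commute_VS hmf.constrained hx hv).eq.symm

end Core

/-- The setting of a minimal failure with its module: the centre of `S` moves, the Thompson subgroup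
moves the module, and a normal supplement of `S` cannot meet it exactly in the Baumann subgroup. -/
structure Failed (p : ℕ) (𝓦 : Set (∀ (Q : Type u) [Group Q], Subgroup Q)) (S : Sylow p X) : Prop where
  odd : Odd p
  mf : IsMinimalFailure p 𝓦 S
  exists_moved : ∃ z ∈ ZS S, ∃ g : X, g * z ≠ z * g
  thompson_not_le : ¬ thompson p (S : Subgroup X) ≤ centralizer (VS S : Set X)
  baumann : ∀ L : Subgroup X, L.Normal → L ⊔ (S : Subgroup X) = ⊤ →
    (S : Subgroup X) ⊓ L =
      (S : Subgroup X) ⊓ centralizer (Cfsg.omegaOne p (centerJ p (S : Subgroup X)) : Set X) → L = ⊤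

variable (F : Failed p 𝓦 S)
include F

theorem Failed.hc : centralizer (Cfsg.pCore p X : Set X) ≤ Cfsg.pCore p X := F.mf.constrained

theorem Failed.ne_bot : (S : Subgroup X) ≠ ⊥ := fun e =>
  F.mf.pCore_ne_sylow (le_antisymm (CfsgLib.PCore.pCore_le_sylow S) (e ▸ bot_le))

theorem Failed.centralizer_sup_ne_top :
    centralizer (VS S : Set X) ⊔ (S : Subgroup X) ≠ ⊤ :=
  centralizer_sup_ne_top_of_moved F.exists_moved

theorem Failed.inf_centralizer :
    (S : Subgroup X) ⊓ centralizer (VS S : Set X) = Cfsg.pCore p X :=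
  inf_centralizer_of_moved F.mf F.exists_moved

theorem Failed.VS_comm : IsMulCommutative ↥(VS S) := (VS_elemAb F.hc).1

theorem Failed.VS_le : VS S ≤ (S : Subgroup X) :=
  (VS_le_core F.hc).trans (inf_le_left.trans (CfsgLib.PCore.pCore_le_sylow S))

theorem Failed.minPar [IsMulCommutative ↥(VS S)] :
    ∃ M : Subgroup X, MinPar p (actHom (VS_normal (S := S))).range (M.map (actHom VS_normal))
      ((S : Subgroup X).map (actHom VS_normal)) := by
  obtain ⟨M, hSM, hMne, hM, -⟩ := exists_max F.mf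
  set π := actHom (VS_normal (S := S)) with hπ
  have hker : π.ker = centralizer (VS S : Set X) := by
    ext g
    rw [MonoidHom.mem_ker]
    exact actHom_eq_one_iff _
  have hCM : centralizer (VS S : Set X) ≤ M :=
    le_sup_left.trans (hM _ le_sup_right F.centralizer_sup_ne_top)
  refine ⟨M, ⟨fun w => hp_additive (VS_elemAb F.hc) w, S.2.map π, Subgroup.map_mono hSM,
    map_le_range π M, fun e => hMne ?_, fun H hH hHP hne => ?_, fun R hR hRp => ?_,
    fun R hR hRp => ?_, fun R hR hRp hn => ?_, ?_⟩⟩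
  · have h1 := comap_map_eq π M
    rw [e, hker, sup_eq_left.2 hCM] at h1
    rw [← h1, eq_top_iff]
    exact fun x _ => ⟨x, rfl⟩
  · rw [← map_comap_eq_self hHP]
    refine Subgroup.map_mono (hM _ (map_le_iff_le_comap.1 hH) fun e => hne ?_)
    rw [← map_comap_eq_self hHP, e, MonoidHom.range_eq_map]
  · obtain ⟨x, hx⟩ := exists_cj_sylow π S hR hRp
    exact ⟨π x, ⟨x, rfl⟩, hx⟩
  · obtain ⟨x, hx⟩ := exists_cj_sylow (π.comp M.subtype) (S.subtype hSM) (R := R)
      (by rwa [MonoidHom.range_comp, range_subtype]) hRp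
    refine ⟨π x, ⟨x, x.2, rfl⟩, ?_⟩
    rwa [← Subgroup.map_map, Sylow.coe_subtype, map_subgroupOf_eq_of_le hSM] at hx
  · obtain ⟨x, hx⟩ := exists_cj_sylow π S hR hRp
    have hRT : R ≤ (S : Subgroup X).map π := by
      have := cj_mono' (g := (π x)⁻¹) hx
      rwa [cj_inv_cj, hn _ (inv_mem ⟨x, rfl⟩)] at this
    have hle : R.comap π ≤ centralizer (VS S : Set X) ⊔ (S : Subgroup X) := by
      rw [← hker, sup_comm, ← comap_map_eq]
      exact Subgroup.comap_mono hRT
    have hN : (R.comap π).Normal := ⟨fun n hn' g => by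
      show π (g * n * g⁻¹) ∈ R
      rw [map_mul, map_mul, map_inv, ← hn (π g) ⟨g, rfl⟩]
      exact conj_mem_cj hn'⟩
    have hne : R.comap π ⊔ (S : Subgroup X) ≠ ⊤ := fun e =>
      F.centralizer_sup_ne_top (top_le_iff.1 (e ▸ sup_le hle le_sup_right))
    have h1 := inf_le_pCore F.mf hne
    refine (Subgroup.eq_bot_iff_forall _).2 fun r hr => ?_
    obtain ⟨g, rfl⟩ := hR hr
    haveI := VS_normal (S := S)
    obtain ⟨c, hc, s, hs, rfl⟩ := mem_sup_of_normal_left.1 (hle hr)
    have hπc : π c = 1 := (actHom_eq_one_iff _).2 hc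
    have hsR : s ∈ R.comap π := by
      show π s ∈ R
      rwa [map_mul, hπc, one_mul] at hr
    have hsC : s ∈ centralizer (VS S : Set X) :=
      (F.inf_centralizer ▸ h1 ⟨hs, hsR⟩ : s ∈ (S : Subgroup X) ⊓ centralizer (VS S : Set X)).2
    rw [map_mul, hπc, one_mul]
    exact (actHom_eq_one_iff _).2 hsC
  · obtain ⟨z, hz, g, hg⟩ := F.exists_moved
    refine ⟨Additive.ofMul ⟨z, Subgroup.subset_normalClosure hz⟩,
      (mem_fix_map_iff _ _ _).2 (mem_centralizer_iff.2 fun s hs => (mem_ZS hz).2 s hs), fun h => hg ?_⟩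
    exact (actHom_fix_iff _ g _).1 (h _ ⟨g, rfl⟩)

theorem Failed.span [IsMulCommutative ↥(VS S)] (U : AddSubgroup (Additive ↥(VS S)))
    (hfix : fix ((S : Subgroup X).map (actHom (VS_normal (S := S)))) ≤ U)
    (hinv : ∀ g ∈ (actHom (VS_normal (S := S))).range, ∀ u ∈ U, g • u ∈ U) : U = ⊤ := by
  let U' : Subgroup X :=
    { carrier := {x | ∃ u ∈ U, ((u.toMul : ↥(VS S)) : X) = x}
      one_mem' := ⟨0, zero_mem U, rfl⟩
      mul_mem' := by
        rintro _ _ ⟨a, ha, rfl⟩ ⟨b, hb, rfl⟩
        exact ⟨a + b, add_mem ha hb, rfl⟩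
      inv_mem' := by
        rintro _ ⟨a, ha, rfl⟩
        exact ⟨-a, neg_mem ha, rfl⟩ }
  haveI : U'.Normal := ⟨by
    rintro _ ⟨u, hu, rfl⟩ g
    exact ⟨_, hinv _ ⟨g, rfl⟩ u hu, actHom_coe _ g u⟩⟩
  have hle : VS S ≤ U' := Subgroup.normalClosure_le_normal fun z hz =>
    ⟨Additive.ofMul ⟨z, Subgroup.subset_normalClosure hz⟩,
      hfix ((mem_fix_map_iff _ _ _).2 (mem_centralizer_iff.2 fun s hs => (mem_ZS hz).2 s hs)), rfl⟩
  refine top_le_iff.1 fun w _ => ?_
  obtain ⟨u, hu, e⟩ := hle w.toMul.2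
  rwa [← Additive.toMul.injective (Subtype.ext e)]

/-- The weight of a maximal elementary abelian subgroup of `S` on the module is that of the
trivial group, and exchanging it gives one centralising the module. -/
theorem Failed.offender [IsMulCommutative ↥(VS S)] {A : Subgroup X}
    (hA : IsMaxElemIn p (S : Subgroup X) A) :
    Nat.card (Additive ↥(VS S)) ≤ Nat.card (A.map (actHom (VS_normal (S := S)))) *
        Nat.card (fix (A.map (actHom (VS_normal (S := S))))) ∧
      IsMaxElemIn p (S : Subgroup X) ((A ⊓ centralizer (VS S : Set X)) ⊔ VS S) := by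
  haveI := VS_normal (S := S)
  set π := actHom (VS_normal (S := S))
  set C := centralizer (VS S : Set X)
  set D := A ⊓ C with hD
  have hDV : Cfsg.IsElementaryAbelian p (D ⊔ VS S) :=
    elemAb_sup (elemAb_of_le hA.elem inf_le_left) (VS_elemAb F.hc) inf_le_right
  have hle : D ⊔ VS S ≤ (S : Subgroup X) := sup_le (inf_le_left.trans hA.le) F.VS_le
  have hinf : D ⊓ VS S = VS S ⊓ centralizer (A : Set X) := by
    ext x
    simp only [hD, mem_inf]
    constructor
    · rintro ⟨⟨hxA, -⟩, hxV⟩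
      exact ⟨hxV, mem_centralizer_iff.2 fun a ha => elemAb_commute hA.elem ha hxA⟩
    · rintro ⟨hxV, hxA⟩
      exact ⟨⟨hA.mem_of_centralizes (F.VS_le hxV) ((VS_elemAb F.hc).2 x hxV)
        fun a ha => mem_centralizer_iff.1 hxA a ha,
        mem_centralizer_iff.2 fun v hv => elemAb_commute (VS_elemAb F.hc) hv hxV⟩, hxV⟩
  have h1 := card_sup_mul_card_inf D (VS S)
  rw [hinf] at h1
  have h2 := hA.2.2 _ hle hDV
  have h3 := card_eq_map_mul (VS_normal (S := S)) A
  have h4 : Nat.card (Additive ↥(VS S)) = Nat.card ↥(VS S) := Nat.card_congr Additive.toMul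
  rw [h4, card_fix_map']
  refine ⟨?_, hA.of_card_le hle hDV ?_⟩
  · refine Nat.le_of_mul_le_mul_left ?_ (Nat.card_pos : 0 < Nat.card D)
    rw [← h1]
    calc Nat.card ↥(D ⊔ VS S) * Nat.card ↥(VS S ⊓ centralizer (A : Set X))
        ≤ Nat.card A * Nat.card ↥(VS S ⊓ centralizer (A : Set X)) := Nat.mul_le_mul_right _ h2
      _ = _ := by rw [h3]; ring
  · obtain ⟨M, hmp⟩ := F.minPar
    have h5 := hmp.card_le (D := A.map π)
      (Subgroup.map_le_range π A) (CfsgLib.PLocal.elemAb_map π hA.elem)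
    rw [h4, card_fix_map'] at h5
    refine Nat.le_of_mul_le_mul_right ?_ (Nat.card_pos : 0 < Nat.card ↥(VS S ⊓ centralizer (A : Set X)))
    rw [h1, h3]
    calc Nat.card (A.map π) * Nat.card D * Nat.card ↥(VS S ⊓ centralizer (A : Set X))
        = Nat.card D * (Nat.card (A.map π) * Nat.card ↥(VS S ⊓ centralizer (A : Set X))) := by ring
      _ ≤ _ := Nat.mul_le_mul_left _ h5

theorem Failed.hyp [IsMulCommutative ↥(VS S)] : ∃ M : Subgroup X,
    Hyp p (actHom (VS_normal (S := S))).range (M.map (actHom VS_normal))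
      ((S : Subgroup X).map (actHom VS_normal)) := by
  obtain ⟨M, hmp⟩ := F.minPar
  refine ⟨M, hmp, F.odd, F.span, ?_⟩
  obtain ⟨A, hA, hAC⟩ : ∃ A, IsMaxElemIn p (S : Subgroup X) A ∧ ¬ A ≤ centralizer (VS S : Set X) := by
    by_contra h
    push Not at h
    exact F.thompson_not_le (thompson_le_iff.2 h)
  obtain ⟨B, -, hB⟩ := exists_off (map_le_range _ A)
    (CfsgLib.PLocal.elemAb_map (actHom (VS_normal (S := S))) hA.elem)
    (fun e => hAC fun a ha => (actHom_eq_one_iff (VS_normal (S := S))).1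
      (Subgroup.mem_bot.1 (e ▸ Subgroup.mem_map_of_mem _ ha)))
    (F.offender hA).1
  exact ⟨B, hB⟩

end CfsgLib.CharTransfer
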