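import Cfsg.Agent.Lib.Techniques.CharTransfer.Action

/-!
Baumann's argument in a minimal failure: the Baumann subgroup of `S` is the intersection of `S`
with a normal subgroup, hence equals `S`, and `X / C(V)` is `SL₂`.
-/

set_option autoImplicit false
set_option linter.unusedSectionVars false
set_option linter.style.haveILetI false

namespace CfsgLib.CharTransfer

open CfsgLib.LocalEven.PGV CfsgLib.LocalEven.OffenderSL2 CfsgLib.LocalEven.MinPar
open CfsgLib.LocalEven.MinPar.Bridge
open CfsgLib.PLocal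
open Subgroup
open scoped IsMulCommutative

universe u

variable {X : Type u} [Group X] [Finite X] {p : ℕ} [Fact p.Prime]
  {𝓦 : Set (∀ (Q : Type u) [Group Q], Subgroup Q)} {S : Sylow p X}

/-- `Ω₁(Z(J(S)))`. -/
def WJ (S : Sylow p X) : Subgroup X := Cfsg.omegaOne p (centerJ p (S : Subgroup X))

/-- The Baumann subgroup inside `S`. -/
def B0 (S : Sylow p X) : Subgroup ↥(S : Subgroup X) :=
  centralizer (Cfsg.omegaOne p (centerJ p (⊤ : Subgroup ↥(S : Subgroup X))) : Set ↥(S : Subgroup X))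

theorem B0_characteristic : (B0 S).Characteristic := by
  have hW : (Cfsg.omegaOne p (centerJ p (⊤ : Subgroup ↥(S : Subgroup X)))).Characteristic := by
    rw [Subgroup.characteristic_iff_map_eq]
    intro φ
    rw [← omegaOne_map (f := φ.toMonoidHom) φ.injective, ← centerJ_map (f := φ.toMonoidHom) φ.injective,
      Subgroup.map_top_of_surjective φ.toMonoidHom φ.surjective]
  rw [B0]
  infer_instance

theorem B0_map :
    (B0 S).map (S : Subgroup X).subtype = (S : Subgroup X) ⊓ centralizer (WJ S : Set X) := by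
  have hW : (Cfsg.omegaOne p (centerJ p (⊤ : Subgroup ↥(S : Subgroup X)))).map (S : Subgroup X).subtype =
      WJ S := by
    rw [WJ, ← omegaOne_map (S : Subgroup X).subtype_injective,
      ← centerJ_map (S : Subgroup X).subtype_injective, map_subtype_top]
  ext x
  constructor
  · rintro ⟨y, hy, rfl⟩
    refine ⟨y.2, mem_centralizer_iff.2 fun w hw => ?_⟩
    rw [← hW] at hw
    obtain ⟨w₀, hw₀, rfl⟩ := hw
    exact congrArg Subtype.val (mem_centralizer_iff.1 hy w₀ hw₀)
  · rintro ⟨hxS, hx⟩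
    refine ⟨⟨x, hxS⟩, mem_centralizer_iff.2 fun w hw => Subtype.ext ?_, rfl⟩
    exact mem_centralizer_iff.1 hx _ (hW ▸ Subgroup.mem_map_of_mem _ hw)

theorem WJ_spec {w : X} (hw : w ∈ WJ S) :
    w ∈ centerJ p (S : Subgroup X) ∧ w ^ p = 1 :=
  ⟨omegaOne_le p _ hw, (omegaOne_centerJ_elemAb p (S : Subgroup X)).2 w hw⟩

theorem mem_WJ {w : X} (hwS : w ∈ (S : Subgroup X)) (hwp : w ^ p = 1)
    (hc : w ∈ centralizer (thompson p (S : Subgroup X) : Set X)) : w ∈ WJ S :=
  mem_omegaOne (mem_centerJ_of_centralizes hwS hwp hc) hwp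

/-- The cocycle `g ↦ [g, w]` on `V`, additively. -/
theorem exists_fixed_part {W : Type*} [AddCommGroup W] {X : Type*} [Group X] {p : ℕ} [Fact p.Prime]
    (hodd : Odd p) (hp : ∀ w : W, p • w = 0) (π : X →* Γ W) (H : Subgroup X) (z : X) (hz : z ∈ H)
    (f : ↥H → W) (hmul : ∀ g h : ↥H, f (g * h) = π (g : X) • f h + f g)
    (hinv : ∀ g : ↥H, π z • f g = -f g) (hker : ∀ c : ↥H, π (c : X) = 1 → f c = 0)
    (hcen : ∀ g : ↥H, Commute (π z) (π (g : X))) : ∃ u : W, ∀ g : ↥H, π (g : X) • u - u = f g := by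
  set z' : ↥H := ⟨z, hz⟩
  refine ⟨((p - 1) / 2) • f z', fun g => ?_⟩
  set c : ↥H := z' * g * (g * z')⁻¹ with hc
  have hπc : π (c : X) = 1 := by
    simp only [hc, Subgroup.coe_mul, Subgroup.coe_inv, map_mul, map_inv]
    show π z * π (g : X) * (π (g : X) * π z)⁻¹ = 1
    rw [(hcen g).eq, mul_inv_cancel]
  have h1 : f (z' * g) = f (g * z') := by
    have e : z' * g = c * (g * z') := by rw [hc, inv_mul_cancel_right]
    rw [e, hmul c, hker c hπc, hπc, one_smul, add_zero]
  rw [hmul, hmul] at h1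
  have h2 : π (g : X) • f z' = f z' - (f g + f g) := by
    have h1' : -f g + f z' = π (g : X) • f z' + f g := by rw [← hinv g]; exact h1
    rw [eq_sub_iff_add_eq]
    calc π (g : X) • f z' + (f g + f g) = (π (g : X) • f z' + f g) + f g := by abel
      _ = f z' := by rw [← h1']; abel
  obtain ⟨j, hj⟩ := hodd
  have h3 : ((p - 1) / 2 + (p - 1) / 2 + 1) • f g = 0 := by
    rw [show (p - 1) / 2 + (p - 1) / 2 + 1 = p by omega, hp]
  rw [add_nsmul, add_nsmul, one_nsmul] at h3
  rw [smul_nsmul', h2, nsmul_sub, nsmul_add, sub_sub_cancel_left]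
  exact neg_eq_of_add_eq_zero_right h3

variable (F : Failed p 𝓦 S)
include F

/-- The conclusion: `X / C(V)` is `SL₂`. -/
theorem Failed.exists_sl2 [IsMulCommutative ↥(VS S)] :
    (S : Subgroup X) ≤ centralizer (WJ S : Set X) ∧ ∃ (K : Type u) (_ : Field K) (_ : Fintype K) (n : ℕ), 1 ≤ n ∧ Fintype.card K = p ^ n ∧
      Nonempty (↥(actHom (VS_normal (S := S))).range ≃* Matrix.SpecialLinearGroup (Fin 2) K) := by
  haveI := VS_normal (S := S)
  obtain ⟨M, H⟩ := F.hyp
  set π := actHom (VS_normal (S := S)) with hπ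
  set C := centralizer (VS S : Set X) with hC
  set T := (S : Subgroup X).map π with hT
  set J := thompson p (S : Subgroup X) with hJ
  set R := blockR p π.range (M.map π) T with hR
  set E := blockE p π.range (M.map π) T with hE
  have hEP : E ≤ π.range := blockE_le H
  have hRT : R ≤ T := blockR_le H
  -- the image of the Thompson subgroup
  have hJR : J.map π = R := by
    refine le_antisymm ?_ ?_
    · rw [map_le_iff_le_comap, hJ, thompson_le_iff]
      intro A hA
      rw [← map_le_iff_le_comap]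
      exact le_R H (Subgroup.map_mono hA.le) (CfsgLib.PLocal.elemAb_map π hA.elem) (F.offender hA).1
    · obtain ⟨A, hA, hAC⟩ : ∃ A, IsMaxElemIn p (S : Subgroup X) A ∧ ¬ A ≤ C := by
        by_contra h
        push Not at h
        exact F.thompson_not_le (thompson_le_iff.2 h)
      refine R_le_of_offender H (J := J.map π) ?_ (Subgroup.map_mono hA.le_thompson)
        (Subgroup.map_mono hA.le) (CfsgLib.PLocal.elemAb_map π hA.elem)
        (fun e => hAC fun a ha => (actHom_eq_one_iff (VS_normal (S := S))).1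
          (Subgroup.mem_bot.1 (e ▸ Subgroup.mem_map_of_mem π ha))) (F.offender hA).1
      rintro _ ⟨s, hs, rfl⟩ _ ⟨_, ⟨j, hj, rfl⟩, rfl⟩
      refine ⟨s * j * s⁻¹, ?_, by simp⟩
      exact (mem_normalizer_iff.1 (le_normalizer_thompson p _ hs) j).1 hj
  have hVS_J : VS S ≤ J := by
    obtain ⟨A, hA⟩ := exists_isMaxElemIn p (S : Subgroup X)
    exact le_sup_right.trans (F.offender hA).2.le_thompson
  have hVp : ∀ v ∈ VS S, v ^ p = 1 := (VS_elemAb F.hc).2
  -- `Y = Ω₁(Z(J(P)))`
  set P := Cfsg.pCore p X with hP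
  have hPn : P.Normal := Cfsg.pCore_normal p X
  set Y := Cfsg.omegaOne p (centerJ p P) with hY
  have hYn : Y.Normal := by
    rw [← normalizer_eq_top_iff, eq_top_iff]
    refine le_trans (le_trans ?_ (normalizer_le_normalizer_centerJ p P))
      (normalizer_le_normalizer_omegaOne p _)
    rw [normalizer_eq_top_iff.2 hPn]
  have hPS : P ≤ (S : Subgroup X) := CfsgLib.PCore.pCore_le_sylow S
  have hswap : ∀ A, IsMaxElemIn p (S : Subgroup X) A → IsMaxElemIn p P ((A ⊓ C) ⊔ VS S) := by
    intro A hA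
    have h := (F.offender hA).2
    refine ⟨sup_le ?_ ((VS_le_core F.hc).trans inf_le_left), h.elem,
      fun B hB hB' => h.2.2 B (hB.trans hPS) hB'⟩
    rw [hP, ← F.inf_centralizer]
    exact inf_le_inf_right _ hA.le
  have hWY : ∀ w ∈ WJ S, w ∈ Y := by
    intro w hw
    obtain ⟨hwJ, hwp⟩ := WJ_spec hw
    have hwc : w ∈ centralizer (J : Set X) := hwJ.2
    have hwP : w ∈ P := by
      rw [hP, ← F.inf_centralizer]
      exact ⟨centerJ_le p _ hwJ, mem_centralizer_iff.2 fun v hv => mem_centralizer_iff.1 hwc v (hVS_J hv)⟩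
    refine mem_omegaOne (mem_centerJ_of_centralizes hwP hwp ?_) hwp
    refine mem_centralizer_iff.2 fun x hx => mem_centralizer_iff.1 hwc x ?_
    obtain ⟨A, hA⟩ := exists_isMaxElemIn p (S : Subgroup X)
    refine (thompson_le_iff.2 fun A' hA' => ?_ : thompson p P ≤ J) hx
    exact ((F.offender hA).2.of_card_le (hA'.le.trans hPS) hA'.elem
      (le_of_eq ((hswap A hA).card_eq hA'))).le_thompson
  have hVY : VS S ≤ Y := by
    intro v hv
    obtain ⟨hvP, hvc⟩ := VS_le_core F.hc hv
    exact mem_omegaOne (mem_centerJ_of_centralizes hvP (hVp v hv)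
      (centralizer_le (thompson_le p P) hvc)) (hVp v hv)
  have hYP : Y ≤ P := (omegaOne_le p _).trans (centerJ_le p P)
  -- the involution
  obtain ⟨zb, hzbE, hzc, -, hzfix⟩ := exists_z H
  set Hn := Subgroup.normalClosure (J : Set X) with hHn
  have hHmap : E ≤ Hn.map π := by
    refine (blockE_le_conj H).trans (iSup₂_le fun g hg => ?_)
    obtain ⟨x, rfl⟩ := hEP hg
    rintro _ ⟨r, hr, rfl⟩
    change r ∈ R at hr
    rw [← hJR] at hr
    obtain ⟨j, hj, rfl⟩ := hr
    exact ⟨x * j * x⁻¹, Subgroup.normalClosure_normal.conj_mem j (Subgroup.subset_normalClosure hj) x,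
      by simp⟩
  haveI hEn : (E.comap π).Normal := ⟨fun e he g => by
    show π (g * e * g⁻¹) ∈ E
    have hle : cj (π g) E ≤ E := by
      simp only [hE, blockE, cj, sSup_eq_iSup, Subgroup.map_iSup]
      refine iSup₂_le fun L hL => ?_
      obtain ⟨D, hb⟩ := hL
      obtain ⟨D', L', hb', e'⟩ := exists_cj H (inv_mem ⟨g, rfl⟩ : (π g)⁻¹ ∈ π.range) hb
      refine le_trans ?_ (le_iSup₂_of_le L' ⟨D', hb'⟩ le_rfl)
      show cj (π g) L ≤ L'
      rw [← e', cj_cj_inv]
    rw [map_mul, map_mul, map_inv]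
    exact hle (conj_mem_cj he)⟩
  have hHE : Hn ≤ E.comap π := Subgroup.normalClosure_le_normal fun j hj =>
    blockR_le_E H (hJR ▸ Subgroup.mem_map_of_mem π hj : π j ∈ R)
  obtain ⟨z, hzH, rfl⟩ := hHmap hzbE
  have hfixP : ∀ (s : Additive ↥(VS S)), s ∈ fix π.range → ∀ g : X, π g • s = s :=
    fun s hs g => hs _ ⟨g, rfl⟩
  -- elements of `Y` give cocycles with values inverted by `z`
  let Q : Subgroup X :=
    { carrier := {g | ∀ y ∈ Y, ∃ v : Additive ↥(VS S), π z • v = -v ∧
        g * y * g⁻¹ * y⁻¹ = ((v.toMul : ↥(VS S)) : X)}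
      one_mem' := fun y _ => ⟨0, by rw [smul_zero, neg_zero], by simp⟩
      mul_mem' := by
        intro g h hg hh y hy
        obtain ⟨v₁, hv₁, e₁⟩ := hh y hy
        obtain ⟨v₂, hv₂, e₂⟩ := hg y hy
        refine ⟨π g • v₁ + v₂, ?_, ?_⟩
        · rw [smul_add, ← mul_smul, (hzc (π g) ⟨g, rfl⟩).eq, mul_smul, hv₁, hv₂, smul_neg]
          abel
        · rw [toMul_add, Subgroup.coe_mul, actHom_coe, ← e₁, ← e₂]; group
      inv_mem' := by
        intro g hg y hy
        obtain ⟨v, hv, e⟩ := hg y hy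
        refine ⟨-(π g⁻¹ • v), ?_, ?_⟩
        · rw [smul_neg, ← mul_smul, (hzc (π g⁻¹) ⟨g⁻¹, rfl⟩).eq, mul_smul, hv, smul_neg]
        · rw [toMul_neg, Subgroup.coe_inv, actHom_coe, ← e]; group }
  haveI hQn : Q.Normal := ⟨fun g hg x y hy => by
    obtain ⟨v, hv, e⟩ := hg (x⁻¹ * y * x) (by simpa using hYn.conj_mem y hy x⁻¹)
    refine ⟨π x • v, ?_, ?_⟩
    · rw [← mul_smul, (hzc (π x) ⟨x, rfl⟩).eq, mul_smul, hv, smul_neg]
    · rw [actHom_coe, ← e]; group⟩
  have hHQ : Hn ≤ Q := by
    refine Subgroup.normalClosure_le_normal ((thompson_le_iff.2 fun A hA => ?_ : J ≤ Q))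
    intro a ha y hy
    have hyD : y ∈ A ⊓ C ⊔ VS S := by
      have hy' := omegaOne_le p _ hy
      exact (hswap A hA).mem_of_centralizes_thompson (hYP hy)
        ((omegaOne_centerJ_elemAb p P).2 y hy) hy'.2
    obtain ⟨d, hd, v, hv, rfl⟩ := Subgroup.mem_sup_of_normal_right.1 hyD
    set w : Additive ↥(VS S) := Additive.ofMul ⟨v, hv⟩
    refine ⟨π a • w - w, ?_, ?_⟩
    · have hs := hfixP _ (hzfix w) a
      have e : π z • π a • w = π a • π z • w := by
        rw [← mul_smul, (hzc (π a) ⟨a, rfl⟩).eq, mul_smul]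
      rw [smul_sub, e, neg_sub]
      rw [smul_add] at hs
      calc π a • π z • w - π z • w = (π a • π z • w + π a • w) - π a • w - π z • w := by abel
        _ = w - π a • w := by rw [hs]; abel
    · have h1 : a * d = d * a := elemAb_commute hA.elem ha hd.1
      have h2 : ∀ x ∈ VS S, x * d = d * x := fun x hx => mem_centralizer_iff.1 hd.2 x hx
      have hu : a * v * a⁻¹ * v⁻¹ ∈ VS S := mul_mem (Subgroup.Normal.conj_mem inferInstance v hv a) (inv_mem hv)
      rw [toMul_sub, div_eq_mul_inv, Subgroup.coe_mul, Subgroup.coe_inv, actHom_coe]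
      show a * (d * v) * a⁻¹ * (d * v)⁻¹ = a * v * a⁻¹ * v⁻¹
      calc a * (d * v) * a⁻¹ * (d * v)⁻¹ = (a * d) * v * a⁻¹ * v⁻¹ * d⁻¹ := by group
        _ = d * (a * v * a⁻¹ * v⁻¹) * d⁻¹ := by rw [h1]; group
        _ = a * v * a⁻¹ * v⁻¹ := by rw [← h2 _ hu, mul_inv_cancel_right]
  -- the decomposition of `Ω₁(Z(J(S)))`
  have hdecomp : ∀ w ∈ WJ S, ∃ u : X, u ∈ VS S ∧ (∀ a ∈ J, a * u = u * a) ∧
      w * u⁻¹ ∈ centralizer (Hn : Set X) := by
    intro w hw
    have hwY := hWY w hw
    obtain ⟨hwJ, hwp⟩ := WJ_spec hw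
    choose f hfz hfe using fun g : ↥Hn => hHQ g.2 w hwY
    have hinj : ∀ v v' : Additive ↥(VS S), ((v.toMul : ↥(VS S)) : X) = (v'.toMul : X) → v = v' :=
      fun v v' e => Additive.toMul.injective (Subtype.ext e)
    have hmul : ∀ g h : ↥Hn, f (g * h) = π (g : X) • f h + f g := fun g h => hinj _ _ (by
      rw [toMul_add, Subgroup.coe_mul, actHom_coe, ← hfe, ← hfe, ← hfe, Subgroup.coe_mul]; group)
    have hfJ : ∀ a : ↥Hn, (a : X) ∈ J → f a = 0 := fun a ha => hinj _ _ (by
      rw [← hfe, toMul_zero, OneMemClass.coe_one]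
      have h := mem_centralizer_iff.1 hwJ.2 (a : X) ha
      rw [h, mul_inv_cancel_right, mul_inv_cancel])
    have hf1 : f 1 = 0 := by
      have := hmul 1 1
      simpa using this
    -- the kernel of `π`
    have hker : ∀ c : ↥Hn, π (c : X) = 1 → f c = 0 := by
      intro c hc
      have hpow : ∀ c : ↥Hn, π (c : X) = 1 → ∀ n : ℕ, f (c ^ n) = n • f c := by
        intro c hc n
        induction n with
        | zero => simp [hf1]
        | succ n ih => rw [pow_succ', hmul, hc, one_smul, ih, succ_nsmul]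
      have hJfix : ∀ a ∈ J, ∀ c : ↥Hn, π (c : X) = 1 → π a • f c = f c := by
        intro a ha c hc
        -- a suitable power lies in `P`
        set m := P.relIndex C with hm
        have hi : ¬ p ∣ m := by
          have := CfsgLib.Techniques.not_dvd_relIndex_inf_normal S C
          rwa [F.inf_centralizer] at this
        have hcC : (c : X) ∈ C := (actHom_eq_one_iff (VS_normal (S := S))).1 hc
        have hmP : (c : X) ^ m ∈ P := by
          haveI : (P.subgroupOf C).Normal := hPn.subgroupOf C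
          have := Subgroup.pow_index_mem (P.subgroupOf C) (⟨c, hcC⟩ : C)
          rw [mem_subgroupOf, Subgroup.coe_pow] at this
          exact this
        set d : ↥Hn := c ^ m with hd
        have hdS : (d : X) ∈ (S : Subgroup X) := by rw [hd, Subgroup.coe_pow]; exact hPS hmP
        have hπd : π (d : X) = 1 := by rw [hd, Subgroup.coe_pow, map_pow, hc, one_pow]
        set a' : ↥Hn := ⟨a, Subgroup.subset_normalClosure ha⟩
        have hmJ : ((a' * d * a'⁻¹ * d⁻¹ : ↥Hn) : X) ∈ J := by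
          have h1 := (mem_normalizer_iff.1 (le_normalizer_thompson p _ hdS) a⁻¹).1 (inv_mem ha)
          have h2 := mul_mem ha h1
          simpa [a', mul_assoc] using h2
        have hfa : f a' = 0 := hfJ a' ha
        have hfai : f a'⁻¹ = 0 := hfJ _ (by simpa [a'] using ha)
        have hfdi : f d⁻¹ = -f d := by
          have := hmul d d⁻¹
          rw [mul_inv_cancel, hf1, hπd, one_smul] at this
          exact eq_neg_of_add_eq_zero_left this.symm
        have h := hfJ _ hmJ
        rw [hmul, hmul, hmul, hfa, hfai, hfdi] at h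
        simp only [Subgroup.coe_mul, Subgroup.coe_inv, map_mul, map_inv, hπd, mul_one,
          mul_inv_cancel, one_smul, smul_zero, add_zero, zero_add] at h
        rw [add_comm, ← sub_eq_add_neg, sub_eq_zero] at h
        have hdm : f d = m • f c := hpow c hc m
        rw [hdm] at h
        obtain ⟨k, hk⟩ := exists_nsmul_eq_self_of_coprime (x := f c) (n := m) (by
          have h1 : addOrderOf (f c) ∣ p := addOrderOf_dvd_of_nsmul_eq_zero (H.mp.hp _)
          rcases (Nat.dvd_prime Fact.out).1 h1 with e | e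
          · rw [e]; exact Nat.coprime_one_right _
          · rw [e]; exact ((Fact.out : p.Prime).coprime_iff_not_dvd.2 hi).symm)
        rw [← hk, smul_nsmul']
        exact congrArg (k • ·) h
      -- conjugates of `J` also fix the values
      have hfix : π z • f c = f c := by
        have hle : E ≤ MulAction.stabilizer (Γ (Additive ↥(VS S))) (f c) := by
          refine (blockE_le_conj H).trans (iSup₂_le fun g hg => ?_)
          obtain ⟨x, hx, rfl⟩ := hHmap hg
          rintro _ ⟨r, hr, rfl⟩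
          change r ∈ R at hr
          rw [← hJR] at hr
          obtain ⟨a, ha, rfl⟩ := hr
          set x' : ↥Hn := ⟨x, hx⟩
          have hc' : π ((x'⁻¹ * c * x' : ↥Hn) : X) = 1 := by
            simp only [Subgroup.coe_mul, Subgroup.coe_inv, map_mul, map_inv, hc, mul_one, inv_mul_cancel]
          have h1 := hJfix a ha _ hc'
          have h2 : f (x'⁻¹ * c * x') = π ((x' : X))⁻¹ • f c := by
            have hxi : π ((x' : X))⁻¹ • f x' + f x'⁻¹ = 0 := by
              have := hmul x'⁻¹ x'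
              rwa [inv_mul_cancel, hf1, Subgroup.coe_inv, map_inv, eq_comm] at this
            rw [hmul, hmul, Subgroup.coe_mul, map_mul, hc, mul_one, Subgroup.coe_inv, map_inv]
            calc (π (x' : X))⁻¹ • f x' + ((π (x' : X))⁻¹ • f c + f x'⁻¹)
                = ((π (x' : X))⁻¹ • f x' + f x'⁻¹) + (π (x' : X))⁻¹ • f c := by abel
              _ = _ := by rw [← map_inv, hxi, zero_add]
          rw [h2] at h1
          show (π x * π a * (π x)⁻¹) • f c = f c
          rw [mul_smul, mul_smul]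
          rw [map_inv] at h1
          rw [h1, smul_inv_smul]
        exact hle (hHE hzH)
      rw [hfz c, neg_eq_iff_add_eq_zero] at hfix
      exact AddSubgroup.mem_bot.1 (half H.mp.hp H.odd (by rw [hfix]; exact zero_mem ⊥))
    obtain ⟨u, hu⟩ := exists_fixed_part H.odd H.mp.hp π Hn z hzH f hmul hfz hker
      (fun g => hzc _ ⟨g, rfl⟩)
    refine ⟨(u.toMul : X), u.toMul.2, fun a ha => ?_, mem_centralizer_iff.2 fun g hg => ?_⟩
    · have h := hu ⟨a, Subgroup.subset_normalClosure ha⟩
      rw [hfJ _ ha, sub_eq_zero] at h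
      exact (actHom_fix_iff _ a u).1 h
    · set uX : X := (u.toMul : X) with huX
      have h := congrArg (fun v : Additive ↥(VS S) => ((v.toMul : ↥(VS S)) : X)) (hu ⟨g, hg⟩)
      simp only [toMul_sub, div_eq_mul_inv, Subgroup.coe_mul, Subgroup.coe_inv, π, actHom_coe] at h
      rw [← hfe] at h
      have hc : Commute w (g * w * g⁻¹ * w⁻¹) :=
        commute_VS F.hc (hYP hwY) (hfe ⟨g, hg⟩ ▸ ((f ⟨g, hg⟩).toMul).2)
      have h' : g * uX * g⁻¹ = uX * (g * w * g⁻¹ * w⁻¹) := by
        rw [← ((commute_VS F.hc (hYP (hVY (hfe ⟨g, hg⟩ ▸ ((f ⟨g, hg⟩).toMul).2))) u.toMul.2).eq), ← h]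
        simp only [uX]; group
      have key : g * (w * uX⁻¹) * g⁻¹ = w * uX⁻¹ := by
        calc g * (w * uX⁻¹) * g⁻¹ = (g * w * g⁻¹ * w⁻¹) * w * (g * uX * g⁻¹)⁻¹ := by group
          _ = w * (g * w * g⁻¹ * w⁻¹) * (g * uX * g⁻¹)⁻¹ := by rw [← hc.eq]
          _ = w * uX⁻¹ := by rw [h']; group
      exact mul_inv_eq_iff_eq_mul.1 key
  -- the Baumann subgroup
  set B := (S : Subgroup X) ⊓ centralizer (WJ S : Set X) with hB
  set L := Subgroup.normalClosure (B : Set X) with hL
  set N₀ := Y ⊓ centralizer (Hn : Set X) with hN₀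
  haveI : Hn.Normal := Subgroup.normalClosure_normal
  have hN₀W : N₀ ≤ WJ S := fun y hy => mem_WJ (hPS (hYP hy.1))
    ((omegaOne_centerJ_elemAb p P).2 y hy.1)
    (centralizer_le Subgroup.subset_normalClosure hy.2)
  have hVW : ∀ v : Additive ↥(VS S), v ∈ fix R → (v.toMul : X) ∈ WJ S := fun v hv =>
    mem_WJ (F.VS_le v.toMul.2) (hVp _ v.toMul.2) ((mem_fix_map_iff (VS_normal (S := S)) J v).1 (hJR ▸ hv))
  have hBR : ∀ b ∈ B, π b ∈ R := fun b hb => mem_R_of_fix H (Subgroup.mem_map_of_mem π hb.1)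
    fun v hv => (actHom_fix_iff _ b v).2 (mem_centralizer_iff.1 hb.2 _ (hVW v hv)).symm
  have hLE : L ≤ E.comap π := Subgroup.normalClosure_le_normal fun b hb => blockR_le_E H (hBR b hb)
  haveI : N₀.Normal := by rw [hN₀]; infer_instance
  have hLN : L ≤ centralizer (N₀ : Set X) := Subgroup.normalClosure_le_normal fun b hb =>
    mem_centralizer_iff.2 fun y hy => mem_centralizer_iff.1 hb.2 y (hN₀W hy)
  have hSL : (S : Subgroup X) ⊓ L = B := by
    refine le_antisymm (fun g hg => ⟨hg.1, mem_centralizer_iff.2 fun w hw => ?_⟩)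
      (le_inf inf_le_left Subgroup.subset_normalClosure)
    obtain ⟨u, huV, huJ, hwu⟩ := hdecomp w hw
    have h1 : Commute g u := by
      set u' : Additive ↥(VS S) := Additive.ofMul ⟨u, huV⟩
      have hu' : u' ∈ fix R :=
        hJR ▸ (mem_fix_map_iff (VS_normal (S := S)) J u').2 (mem_centralizer_iff.2 huJ)
      have hgR : π g ∈ R := inf_le_R H ⟨Subgroup.mem_map_of_mem π hg.1, hLE hg.2⟩
      exact (actHom_fix_iff (VS_normal (S := S)) g u').1 (hu' _ hgR)
    have h2 : Commute g (w * u⁻¹) := by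
      have hmem : w * u⁻¹ ∈ N₀ := ⟨Y.mul_mem (hWY w hw) (Y.inv_mem (hVY huV)), hwu⟩
      exact (mem_centralizer_iff.1 (hLN hg.2) _ hmem).symm
    have := h2.mul_right h1
    rw [inv_mul_cancel_right] at this
    exact this.eq.symm
  haveI : L.Normal := Subgroup.normalClosure_normal
  have hLS : L ⊔ (S : Subgroup X) = ⊤ := by
    by_contra hne
    refine F.thompson_not_le fun a ha => ?_
    have haB : a ∈ B := ⟨thompson_le p _ ha, mem_centralizer_iff.2 fun w hw =>
      (mem_centralizer_iff.1 (WJ_spec hw).1.2 a ha).symm⟩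
    have h := inf_le_pCore F.mf hne (show a ∈ (S : Subgroup X) ⊓ L from hSL.ge haB)
    exact (F.inf_centralizer.ge h).2
  have hLtop : L = ⊤ := F.baumann L inferInstance hLS hSL
  have hTR : T ≤ R := by
    rintro _ ⟨s, hs, rfl⟩
    exact hBR s (hSL ▸ ⟨hs, hLtop ▸ mem_top s⟩)
  refine ⟨fun s hs => ?_, sl2_of_eq H hTR⟩
  exact (hSL ▸ (⟨hs, hLtop ▸ mem_top s⟩ : s ∈ (S : Subgroup X) ⊓ L) : s ∈ B).2

end CfsgLib.CharTransfer
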