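import Cfsg.Agent.Lib.Techniques.CharTransfer.Blocks

/-!
The action of an element of `T` normalising a block on the natural module of the block.
-/

set_option autoImplicit false
set_option linter.unusedSectionVars false
set_option linter.style.haveILetI false

namespace CfsgLib.CharTransfer

open CfsgLib.LocalEven.PGV CfsgLib.LocalEven.OffenderSL2 CfsgLib.LocalEven.MinPar
open CfsgLib.LocalEven.NaturalRecognition
open scoped MatrixGroups

universe v

variable {W : Type v} [AddCommGroup W] [Finite W] {p : ℕ} [Fact p.Prime]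
  {P M T D L S : Subgroup (Γ W)}

/-- Coordinates for an element normalising a block. -/
structure BlockCoords (x : Comp p P M T D L S) (a : Γ W) where
  α : x.fr.F → x.fr.F
  δ : x.fr.F → x.fr.F
  top : ∀ w : W, x.fr.ψ (a • w) 1 = δ (x.fr.ψ w 1)
  line : ∀ w : W, x.fr.ψ w 1 = 0 → x.fr.ψ (a • w) 0 = α (x.fr.ψ w 0) ∧ x.fr.ψ (a • w) 1 = 0
  α_add : ∀ s t, α (s + t) = α s + α t
  ident : ∀ t, ∃ t', (∀ y, α (t * y) = t' * δ y) ∧ ((∀ c ∈ D, Commute a c) → t' = t)
  v₀ : x.fr.F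
  v₀_ne : v₀ ≠ 0
  α_v₀ : α v₀ = v₀

variable (H : Hyp p P M T) (x : Comp p P M T D L S)
include H x

theorem exists_coords {a : Γ W} (haT : a ∈ T) (haD : cj a D = D) :
    Nonempty (BlockCoords x a) := by
  classical
  have hb : IsBlock p P M T D L := ⟨S, x⟩
  have haL := hb.cjL_of_cj H haT haD
  have hfix : ∀ w ∈ fix L, a • w ∈ fix L := fun w hw => smul_fix_of_cj haL hw
  have hwell : ∀ w w' : W, x.fr.ψ w = x.fr.ψ w' → x.fr.ψ (a • w) = x.fr.ψ (a • w') := fun w w' e => by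
    rw [← sub_eq_zero, ← map_sub, ← smul_sub, x.fr.ker]
    exact hfix _ ((x.fr.ker _).1 (by rw [map_sub, e, sub_self]))
  choose sec hsec using x.fr.surj
  obtain ⟨v, hvT, hvL⟩ := hb.exists_vec H
  have hline : ∀ w : W, x.fr.ψ w 1 = 0 → x.fr.ψ (a • w) 1 = 0 := fun w hw =>
    (x.fr.mem_fix _).1 (smul_fix_of_cj haD ((x.fr.mem_fix w).2 hw))
  set α : x.fr.F → x.fr.F := fun s => x.fr.ψ (a • sec ![s, 0]) 0 with hα
  set δ : x.fr.F → x.fr.F := fun y => x.fr.ψ (a • sec ![0, y]) 1 with hδ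
  have hαw : ∀ w : W, x.fr.ψ w 1 = 0 → x.fr.ψ (a • w) 0 = α (x.fr.ψ w 0) := fun w hw => by
    have := hwell w (sec ![x.fr.ψ w 0, 0]) (by
      rw [hsec]; ext i; fin_cases i <;> simp [hw])
    rw [this]
  have hδw : ∀ w : W, x.fr.ψ (a • w) 1 = δ (x.fr.ψ w 1) := fun w => by
    have e := hwell w (sec ![x.fr.ψ w 0, 0] + sec ![0, x.fr.ψ w 1]) (by
      rw [map_add, hsec, hsec]; ext i; fin_cases i <;> simp)
    rw [e, smul_add, map_add, Pi.add_apply, hline _ (by rw [hsec]; simp), zero_add]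
  have hv1 : x.fr.ψ v 1 = 0 := (x.fr.mem_fix v).1 (fix_mono x.BT hvT)
  have hv0 : x.fr.ψ v 0 ≠ 0 := fun e => hvL ((x.fr.ker v).1 (by
    ext i; fin_cases i; exacts [e, hv1]))
  refine ⟨⟨α, δ, hδw, fun w hw => ⟨hαw w hw, hline w hw⟩, fun s t => ?_, fun t => ?_,
    x.fr.ψ v 0, hv0, ?_⟩⟩
  · have e : ∀ u, x.fr.ψ (sec ![u, 0]) 1 = 0 := fun u => by rw [hsec]; simp
    have h1 := hαw (sec ![s, 0] + sec ![t, 0]) (by rw [map_add, Pi.add_apply, e, e, add_zero])
    rw [smul_add, map_add, Pi.add_apply, map_add, Pi.add_apply, hsec, hsec] at h1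
    exact h1.symm
  · obtain ⟨b, hb', hbρ⟩ := x.fr.up_surj t
    have hab : a * (b : Γ W) * a⁻¹ ∈ D := by
      have h := conj_mem_cj (c := a) hb'
      rwa [haD] at h
    obtain ⟨t', ht'⟩ := x.fr.rho_up ⟨_, x.hS.AP hab⟩ hab
    have hactb : ∀ w : W, x.fr.ψ ((b : Γ W) • w) = ![x.fr.ψ w 0 + t * x.fr.ψ w 1, x.fr.ψ w 1] :=
      fun w => by rw [x.fr.compat, hbρ, Setup.up_mulVec]
    have hactb' : ∀ w : W, x.fr.ψ ((a * (b : Γ W) * a⁻¹) • w) =
        ![x.fr.ψ w 0 + t' * x.fr.ψ w 1, x.fr.ψ w 1] := fun w => by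
      have := x.fr.compat ⟨_, x.hS.AP hab⟩ w
      rw [ht', Setup.up_mulVec] at this
      exact this
    refine ⟨t', fun y => ?_, fun hc => ?_⟩
    · set w := sec ![0, y] with hw
      have h1 : x.fr.ψ (a • (b : Γ W) • w) 0 = x.fr.ψ (a • w) 0 + t' * δ y := by
        have e : a • (b : Γ W) • w = (a * (b : Γ W) * a⁻¹) • a • w := by
          rw [mul_smul, mul_smul, inv_smul_smul]
        rw [e, hactb', hδw, hsec]
        simp
      have h2 : x.fr.ψ ((b : Γ W) • w) = x.fr.ψ (sec ![t * y, 0] + w) := by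
        rw [hactb, map_add, hw, hsec, hsec]
        ext i; fin_cases i <;> simp
      rw [hwell _ _ h2, smul_add, map_add, Pi.add_apply, add_comm, add_right_inj] at h1
      exact h1
    · have e : a * (b : Γ W) * a⁻¹ = b := by rw [(hc _ hb').eq, mul_inv_cancel_right]
      have h3 : (⟨_, x.hS.AP hab⟩ : L) = b := Subtype.ext e
      have h4 : up t' = up t := by rw [← ht', h3, hbρ]
      have := congrArg (fun g : SL(2, x.fr.F) => g.1 0 1) h4
      simpa [up_coe] using this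
  · rw [← hαw v hv1, hvT a haT]

theorem line_fixed {a : Γ W} (c : BlockCoords x a) (h : ∀ s, c.α s = s) {w : W}
    (hw : w ∈ fix D) : a • w - w ∈ fix L := by
  have hw1 := (x.fr.mem_fix w).1 hw
  obtain ⟨h0, h1⟩ := c.line w hw1
  rw [← x.fr.ker, map_sub, sub_eq_zero]
  ext i
  fin_cases i
  · exact h0.trans (h _)
  · exact h1.trans hw1.symm

theorem charP_F : CharP x.fr.F p := by
  obtain ⟨q, hq⟩ := CharP.exists x.fr.F
  obtain ⟨w, hw⟩ := x.fr.surj ![1, 0]
  have h1 : (p : x.fr.F) = 0 := by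
    have := congrFun (congrArg x.fr.ψ (H.mp.hp w)) 0
    rw [map_nsmul, map_zero, hw] at this
    simpa using this
  have h2 := (CharP.cast_eq_zero_iff x.fr.F q p).1 h1
  rcases (Nat.dvd_prime Fact.out).1 h2 with rfl | rfl
  · exact absurd rfl (CharP.char_ne_one x.fr.F 1)
  · exact hq

/-- An element of `T` normalising a block and fixed on its line acts on it unipotently. -/
theorem triv_of_line {a : Γ W} (haT : a ∈ T) (haD : cj a D = D)
    (h : ∀ w ∈ fix D, a • w - w ∈ fix L) : ∀ w : W, a • w - w ∈ fix D := by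
  obtain ⟨c⟩ := exists_coords H x haT haD
  haveI := charP_F H x
  have hα : ∀ s, c.α s = s := fun s => by
    obtain ⟨w, hw⟩ := x.fr.surj ![s, 0]
    have hw1 : x.fr.ψ w 1 = 0 := by simp [hw]
    have h1 := (x.fr.ker _).2 (h w ((x.fr.mem_fix w).2 hw1))
    rw [map_sub, sub_eq_zero] at h1
    have h2 := (c.line w hw1).1
    rw [h1, hw] at h2
    simpa using h2.symm
  obtain ⟨k, hk, -⟩ := c.ident 1
  have hky : ∀ y, k * c.δ y = y := fun y => by rw [← hk, one_mul, hα]
  have hk0 : k ≠ 0 := fun e => by simpa [e] using hky 1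
  have hpow : ∀ n : ℕ, ∀ w : W, k ^ n * x.fr.ψ (a ^ n • w) 1 = x.fr.ψ w 1 := by
    intro n
    induction n with
    | zero => simp
    | succ n ih =>
      intro w
      rw [pow_succ', pow_succ', mul_smul, c.top, mul_comm k, mul_assoc, hky, ih]
  obtain ⟨m, hm⟩ := H.mp.hT ⟨a, haT⟩
  have ham : a ^ p ^ m = 1 := by simpa using congrArg Subtype.val hm
  obtain ⟨w₁, hw₁⟩ := x.fr.surj ![0, 1]
  have h1 := hpow (p ^ m) w₁
  rw [ham, one_smul, hw₁] at h1
  have h2 : k ^ p ^ m = 1 := by simpa using h1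
  have hk1 : k = 1 := by
    have h3 : (k - 1) ^ p ^ m = 0 := by rw [sub_pow_char_pow, h2, one_pow, sub_self]
    exact sub_eq_zero.1 (pow_eq_zero_iff (pow_ne_zero m (Fact.out : p.Prime).ne_zero) |>.1 h3)
  intro w
  rw [x.fr.mem_fix, map_sub, Pi.sub_apply, c.top, sub_eq_zero]
  simpa [hk1] using hky (x.fr.ψ w 1)

/-- An element of `T` centralising the minimal offender of a block fixes its line. -/
theorem line_of_commute {a : Γ W} (haT : a ∈ T) (hc : ∀ d ∈ D, Commute a d) :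
    ∀ w ∈ fix D, a • w - w ∈ fix L := by
  obtain ⟨c⟩ := exists_coords H x haT (cj_eq_of_commute hc)
  have hid : ∀ t y, c.α (t * y) = t * c.δ y := fun t y => by
    obtain ⟨t', h1, h2⟩ := c.ident t
    rw [h1, h2 hc]
  have hαδ : ∀ y, c.α y = c.δ y := fun y => by simpa using hid 1 y
  refine fun w hw => line_fixed H x c (fun s => ?_) hw
  have h := hid (s / c.v₀) c.v₀
  rwa [← hαδ, c.α_v₀, div_mul_cancel₀ s c.v₀_ne] at h

/-- A quadratic element of `T` normalising a block fixes its line. -/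
theorem line_of_quadratic {a : Γ W} (haT : a ∈ T) (haD : cj a D = D)
    (hq : ∀ w : W, a • (a • w - w) = a • w - w) : ∀ w ∈ fix D, a • w - w ∈ fix L := by
  obtain ⟨c⟩ := exists_coords H x haT haD
  haveI := charP_F H x
  have hv := c.v₀_ne
  choose β hβ _ using c.ident
  have hprod : ∀ t y, c.α (t * y) * c.α 1 = c.α t * c.α y := fun t y => by
    have e1 : c.α t = β t * c.δ 1 := by rw [← hβ t 1, mul_one]
    have e2 : c.α y = β 1 * c.δ y := by rw [← hβ 1 y, one_mul]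
    have e3 : c.α 1 = β 1 * c.δ 1 := by rw [← hβ 1 1, mul_one]
    rw [hβ t y, e1, e2, e3]; ring
  have h10 : c.α 1 ≠ 0 := fun e => hv (by
    have h := hprod c.v₀ c.v₀
    rw [e, mul_zero, c.α_v₀] at h
    exact mul_self_eq_zero.1 h.symm)
  have hz : ∀ z, c.v₀ * c.α z = c.α (c.v₀ * z) * c.α 1 := fun z => by
    rw [hprod, c.α_v₀]
  have hmul : ∀ y z, c.α (c.v₀ * (y * z)) * c.v₀ = c.α (c.v₀ * y) * c.α (c.v₀ * z) := fun y z => by
    apply mul_right_cancel₀ h10
    rw [mul_assoc (c.α (c.v₀ * y)), ← hz z, ← mul_assoc c.v₀ y z, mul_right_comm, hprod]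
    ring
  have hinv : ∀ s, c.α (c.α s - s) = c.α s - s := fun s => by
    obtain ⟨w, hw⟩ := x.fr.surj ![s, 0]
    have hw1 : x.fr.ψ w 1 = 0 := by simp [hw]
    obtain ⟨h0, h1⟩ := c.line w hw1
    have hu1 : x.fr.ψ (a • w - w) 1 = 0 := by rw [map_sub, Pi.sub_apply, h1, hw1, sub_self]
    have h2 := (c.line _ hu1).1
    rw [hq, map_sub, Pi.sub_apply, h0, hw] at h2
    simpa using h2.symm
  refine fun w hw => line_fixed H x c (fun s => ?_) hw
  obtain ⟨r, rfl⟩ : ∃ r, c.v₀ * r = s := ⟨s / c.v₀, by field_simp⟩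
  -- compare the values at `r` and at `r * r`
  set A₁ := c.α (c.v₀ * r) with hA₁
  set d := A₁ - c.v₀ * r with hd
  have hd1 : c.α d = d := hinv _
  have hsq := hmul r r
  have h2 := hinv (c.v₀ * (r * r))
  set A₂ := c.α (c.v₀ * (r * r)) with hA₂
  -- the value at `d`, and the square of `d`
  obtain ⟨e, he⟩ : ∃ e, c.v₀ * e = d := ⟨d / c.v₀, by field_simp⟩
  have hre := hmul r e
  have hee := hmul e e
  rw [he, hd1] at hre hee
  have hA : A₁ = c.v₀ * r + d := by rw [hd]; ring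
  have hkey : A₂ - c.v₀ * (r * r) = c.v₀ * (r * e) + c.v₀ * (r * e) + c.v₀ * (e * e) := by
    apply mul_right_cancel₀ hv
    rw [sub_mul, hsq, ← hA₁, hA, ← he]
    ring
  rw [hkey, c.α_add, c.α_add] at h2
  have h3 : (2 : x.fr.F) * (d * d) = 0 := by
    have h2' := congrArg (fun z => z * c.v₀) h2
    simp only [add_mul] at h2'
    rw [hre, hee, ← hA₁, hA] at h2'
    linear_combination h2' + (2 * c.v₀ * r + c.v₀ * e + d) * he
  have h20 : (2 : x.fr.F) ≠ 0 := by
    intro h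
    have h4 : ((2 : ℕ) : x.fr.F) = 0 := by exact_mod_cast h
    rw [CharP.cast_eq_zero_iff x.fr.F p] at h4
    obtain ⟨j, hj⟩ := H.odd
    have := Nat.le_of_dvd two_pos h4
    have := (Fact.out : p.Prime).two_le
    omega
  have hd0 : d = 0 := mul_self_eq_zero.1 ((mul_eq_zero.1 h3).resolve_left h20)
  exact sub_eq_zero.1 hd0

end CfsgLib.CharTransfer
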