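import Cfsg.Agent.Lib.LocalEven.MinPar.Decomp

/-!
The blocks of a `p`-minimal linear group with an offender, for odd `p`: the product `R` of the
minimal offenders in `T` contains every offender of largest weight in `T` and is the part of `T`
fixing its fixed space; the central involution inverts the commutator space.
-/

set_option autoImplicit false
set_option linter.unusedSectionVars false
set_option linter.style.haveILetI false

namespace CfsgLib.CharTransfer

open CfsgLib.LocalEven.PGV CfsgLib.LocalEven.OffenderSL2 CfsgLib.LocalEven.MinPar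
open CfsgLib.LocalEven.NaturalRecognition
open scoped MatrixGroups

universe v

variable {W : Type v} [AddCommGroup W]

/-- The elements acting trivially modulo `U`. -/
def trivMod (U : AddSubgroup W) : Subgroup (Γ W) where
  carrier := {g | ∀ w : W, g • w - w ∈ U}
  one_mem' w := by simp
  mul_mem' := fun {a b} ha hb w => by
    have e : (a * b) • w - w = (a • b • w - b • w) + (b • w - w) := by rw [mul_smul]; abel
    rw [e]; exact add_mem (ha _) (hb w)
  inv_mem' := fun {a} ha w => by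
    have e : a⁻¹ • w - w = -(a • a⁻¹ • w - a⁻¹ • w) := by rw [smul_inv_smul]; abel
    rw [e]; exact neg_mem (ha _)

theorem smul_fix_of_cj {g : Γ W} {L : Subgroup (Γ W)} (e : cj g L = L) {w : W} (hw : w ∈ fix L) :
    g • w ∈ fix L := by
  have := smul_mem_fix_cj (g := g) hw
  rwa [e] at this

variable {p : ℕ} {P M T : Subgroup (Γ W)}

theorem half (hp : ∀ w : W, p • w = 0) (h2 : Odd p) {U : AddSubgroup W} {w : W} (h : w + w ∈ U) :
    w ∈ U := by
  have e : ((p + 1) / 2) • (w + w) = w := by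
    rw [← two_nsmul, smul_smul, Nat.div_mul_cancel (by obtain ⟨k, rfl⟩ := h2; omega), add_nsmul, hp,
      one_nsmul, zero_add]
  rw [← e]
  exact nsmul_mem h _

/-- `D` is a minimal offender of `T` with subgroup `L` of type `SL₂`. -/
def IsBlock (p : ℕ) (P M T D L : Subgroup (Γ W)) : Prop := ∃ S, Comp p P M T D L S

/-- The product of the subgroups of type `SL₂`. -/
def blockE (p : ℕ) (P M T : Subgroup (Γ W)) : Subgroup (Γ W) :=
  sSup {L | ∃ D, IsBlock p P M T D L}

/-- The product of the minimal offenders in `T`. -/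
def blockR (p : ℕ) (P M T : Subgroup (Γ W)) : Subgroup (Γ W) :=
  sSup {D | ∃ L, IsBlock p P M T D L}

/-- The setting. -/
structure Hyp (p : ℕ) (P M T : Subgroup (Γ W)) : Prop where
  mp : MinPar p P M T
  odd : Odd p
  span : ∀ U : AddSubgroup W, fix T ≤ U → (∀ g ∈ P, ∀ u ∈ U, g • u ∈ U) → U = ⊤
  ex : ∃ A, Off p P A

variable {D L D' L' : Subgroup (Γ W)}

theorem IsBlock.le_E (hb : IsBlock p P M T D L) : L ≤ blockE p P M T := le_sSup ⟨D, hb⟩

theorem IsBlock.le_R (hb : IsBlock p P M T D L) : D ≤ blockR p P M T := le_sSup ⟨L, hb⟩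

theorem IsBlock.DL (hb : IsBlock p P M T D L) : D ≤ L := hb.choose_spec.hS.AP

theorem IsBlock.DT (hb : IsBlock p P M T D L) : D ≤ T := hb.choose_spec.BT

theorem IsBlock.LP (hb : IsBlock p P M T D L) : L ≤ P := hb.choose_spec.LP

theorem IsBlock.off (hb : IsBlock p P M T D L) : Off p P D := hb.choose_spec.hB

theorem IsBlock.fix_le (hb : IsBlock p P M T D L) : fix L ≤ fix D := fix_mono hb.DL

variable [Finite W] [Fact p.Prime] (H : Hyp p P M T)
include H

theorem hp' : ∀ w : W, p • w = 0 := H.mp.hp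

theorem two_lt {A : Subgroup (Γ W)} (hA : Off p P A) : 2 < Nat.card A := by
  obtain ⟨k, hk⟩ := IsPGroup.iff_card.1 hA.pgroup
  have hk0 : k ≠ 0 := fun e => hA.A1 (Subgroup.card_eq_one.1 (by rw [hk, e, pow_zero]))
  have h3 : 3 ≤ p := by
    have := (Fact.out : p.Prime).two_le
    obtain ⟨j, hj⟩ := H.odd
    omega
  calc 2 < p := h3
    _ ≤ p ^ k := Nat.le_self_pow hk0 p
    _ = _ := hk.symm

theorem exists_block {A : Subgroup (Γ W)} (hA : Off p P A) (hAT : A ≤ T) :
    ∃ L, IsBlock p P M T A L := by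
  obtain ⟨A₀, hA₀⟩ := H.ex
  obtain ⟨g, -, L, S, x⟩ := H.mp.exists_comp hA₀ (two_lt H hA₀)
  obtain ⟨t, ht, rfl⟩ := x.exists_eq_cj H.mp hA hAT
  exact ⟨_, _, x.conj H.mp ht⟩

theorem exists_block' : ∃ D L, IsBlock p P M T D L := by
  obtain ⟨A₀, hA₀⟩ := H.ex
  obtain ⟨g, -, L, S, x⟩ := H.mp.exists_comp hA₀ (two_lt H hA₀)
  exact ⟨_, L, S, x⟩

theorem IsBlock.unique (hb : IsBlock p P M T D L) (hb' : IsBlock p P M T D L') : L = L' := by
  obtain ⟨S, x⟩ := hb
  obtain ⟨S', y⟩ := hb'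
  exact le_antisymm (y.le_of_eq_root H.mp x) (x.le_of_eq_root H.mp y)

theorem IsBlock.conj (hb : IsBlock p P M T D L) {t : Γ W} (ht : t ∈ T) :
    IsBlock p P M T (cj t D) (cj t L) := by
  obtain ⟨S, x⟩ := hb
  exact ⟨_, x.conj H.mp ht⟩

theorem IsBlock.exists_conj (hb : IsBlock p P M T D L) (hb' : IsBlock p P M T D' L') :
    ∃ t ∈ T, D' = cj t D ∧ L' = cj t L := by
  obtain ⟨S, x⟩ := id hb
  obtain ⟨t, ht, e⟩ := x.exists_eq_cj H.mp hb'.off hb'.DT
  refine ⟨t, ht, e, IsBlock.unique H hb' ?_⟩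
  rw [e]
  exact hb.conj H ht

theorem IsBlock.commute (hb : IsBlock p P M T D L) (hb' : IsBlock p P M T D' L') (hne : D ≠ D') :
    ∀ g ∈ L, ∀ g' ∈ L', Commute g g' := by
  obtain ⟨S, x⟩ := hb
  obtain ⟨S', y⟩ := hb'
  exact (x.commute_comp H.mp y hne).1

theorem IsBlock.other (hb : IsBlock p P M T D L) (hb' : IsBlock p P M T D' L') (hne : D ≠ D') :
    L ≤ trivMod (fix L') := by
  intro g hg w
  have hcomm := hb.commute H hb' hne g hg
  obtain ⟨S, x⟩ := hb
  obtain ⟨S', y⟩ := hb'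
  obtain ⟨c, hc, l, hl, rfl⟩ :=
    AddSubgroup.mem_sup.1 (y.fr.com_sup y.hS y.hq ▸ AddSubgroup.mem_top w)
  rw [smul_add, (x.commute_comp H.mp y hne).2 hc g hg, add_sub_add_left_eq_sub]
  exact sub_mem (smul_fix_of_cj (cj_eq_of_commute hcomm) hl) hl

theorem IsBlock.eq_one_of_triv (hb : IsBlock p P M T D L) {g : Γ W} (hg : g ∈ L)
    (h : ∀ w : W, g • w - w ∈ fix L) : g = 1 := by
  obtain ⟨S, x⟩ := hb
  have h1 : x.fr.ρ ⟨g, hg⟩ = 1 := by
    refine Setup.mulVec_injective fun v => ?_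
    obtain ⟨w, rfl⟩ := x.fr.surj v
    rw [Matrix.SpecialLinearGroup.coe_one, Matrix.one_mulVec, ← x.fr.compat ⟨g, hg⟩ w,
      ← sub_eq_zero, ← map_sub, x.fr.ker]
    exact h w
  exact congrArg Subtype.val (x.fr.ρ.injective (h1.trans (map_one x.fr.ρ).symm) : (⟨g, hg⟩ : L) = 1)

theorem IsBlock.not_le (hb : IsBlock p P M T D L) (hb' : IsBlock p P M T D' L') (hne : D ≠ D') :
    ¬ D' ≤ L := fun hle => hb'.off.A1 ((Subgroup.eq_bot_iff_forall _).2 fun c hc =>
  IsBlock.eq_one_of_triv H hb' (hb'.DL hc) fun w => hb.other H hb' hne (hle hc) w)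

theorem IsBlock.ne_of_ne (hb : IsBlock p P M T D L) (hb' : IsBlock p P M T D' L') (hne : D ≠ D') :
    L ≠ L' := fun e => hb.not_le H hb' hne (e ▸ hb'.DL)

theorem IsBlock.eq_of_cj (hb : IsBlock p P M T D L) {t : Γ W} (ht : t ∈ T) (e : cj t L = L) :
    cj t D = D := by
  by_contra hne
  exact hb.not_le H (hb.conj H ht) (Ne.symm hne) (e ▸ cj_mono' hb.DL)

theorem IsBlock.cjL_of_cj (hb : IsBlock p P M T D L) {t : Γ W} (ht : t ∈ T) (e : cj t D = D) :
    cj t L = L := by
  have := hb.conj H ht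
  rw [e] at this
  exact IsBlock.unique H this hb

theorem IsBlock.cj_of_mem (hb : IsBlock p P M T D L) (hb' : IsBlock p P M T D' L') {g : Γ W}
    (hg : g ∈ L') : cj g L = L := by
  by_cases e : D' = D
  · subst e
    rw [IsBlock.unique H hb hb']
    exact cj_eq_self hg
  · exact cj_eq_of_commute fun c hc => hb'.commute H hb e g hg c hc

theorem blockE_le : blockE p P M T ≤ P := sSup_le fun _ ⟨_, hb⟩ => hb.LP

theorem blockR_le : blockR p P M T ≤ T := sSup_le fun _ ⟨_, hb⟩ => hb.DT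

theorem blockR_le_E : blockR p P M T ≤ blockE p P M T :=
  sSup_le fun _ ⟨_, hb⟩ => hb.DL.trans hb.le_E

theorem gen : blockE p P M T ⊔ T = P := by
  by_contra hne
  have hle := H.mp.uniq _ le_sup_right (sup_le (blockE_le H) H.mp.TP) hne
  obtain ⟨D, L, hb⟩ := exists_block' H
  obtain ⟨S, x⟩ := id hb
  exact x.n_not_M H.mp ((hb.le_E.trans (le_sup_left.trans hle)) x.fr.n_mem)

theorem blockE_cj (hb : IsBlock p P M T D L) {g : Γ W} (hg : g ∈ blockE p P M T) :
    cj g L = L := by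
  let K : Subgroup (Γ W) :=
    { carrier := {g | cj g L = L}
      one_mem' := cj_one
      mul_mem' := fun {a b} ha hb => by
        show cj (a * b) L = L
        rw [cj_mul, hb, ha]
      inv_mem' := fun {a} ha => by
        show cj a⁻¹ L = L
        have := congrArg (cj a⁻¹) ha
        rw [cj_inv_cj] at this
        exact this.symm }
  exact (sSup_le fun L' ⟨D', hb'⟩ g hg => hb.cj_of_mem H hb' hg : blockE p P M T ≤ K) hg

/-- `P` permutes the blocks. -/
theorem exists_cj {g : Γ W} (hg : g ∈ P) (hb : IsBlock p P M T D L) :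
    ∃ D' L', IsBlock p P M T D' L' ∧ cj g L' = L := by
  let K : Subgroup (Γ W) :=
    { carrier := {g | (∀ D L, IsBlock p P M T D L → ∃ D' L', IsBlock p P M T D' L' ∧ cj g L' = L) ∧
        ∀ D L, IsBlock p P M T D L → ∃ D' L', IsBlock p P M T D' L' ∧ cj g L = L'}
      one_mem' := ⟨fun D L hb => ⟨D, L, hb, cj_one⟩, fun D L hb => ⟨D, L, hb, cj_one⟩⟩
      mul_mem' := fun {a b} ha hb' => ⟨fun D L hb => by
        obtain ⟨D₁, L₁, h1, e1⟩ := ha.1 D L hb
        obtain ⟨D₂, L₂, h2, e2⟩ := hb'.1 D₁ L₁ h1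
        exact ⟨D₂, L₂, h2, by rw [cj_mul, e2, e1]⟩, fun D L hb => by
        obtain ⟨D₁, L₁, h1, e1⟩ := hb'.2 D L hb
        obtain ⟨D₂, L₂, h2, e2⟩ := ha.2 D₁ L₁ h1
        exact ⟨D₂, L₂, h2, by rw [cj_mul, e1, e2]⟩⟩
      inv_mem' := fun {a} ha => ⟨fun D L hb => by
        obtain ⟨D₁, L₁, h1, e1⟩ := ha.2 D L hb
        exact ⟨D₁, L₁, h1, by rw [← e1, cj_inv_cj]⟩, fun D L hb => by
        obtain ⟨D₁, L₁, h1, e1⟩ := ha.1 D L hb
        exact ⟨D₁, L₁, h1, by rw [← e1, cj_inv_cj]⟩⟩ }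
  have hle : P ≤ K := by
    rw [← gen H]
    refine sup_le (fun g hg => ⟨fun D L hb => ⟨D, L, hb, blockE_cj H hb hg⟩,
      fun D L hb => ⟨D, L, hb, blockE_cj H hb hg⟩⟩) fun t ht => ⟨fun D L hb => ?_, fun D L hb => ?_⟩
    · exact ⟨_, _, hb.conj H (inv_mem ht), cj_cj_inv t L⟩
    · exact ⟨_, _, hb.conj H ht, rfl⟩
  exact (hle hg).1 D L hb

omit [Finite W] [Fact p.Prime] H in
theorem mem_fixE {w : W} :
    w ∈ fix (blockE p P M T) ↔ ∀ D L, IsBlock p P M T D L → w ∈ fix L := by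
  refine ⟨fun h D L hb => fix_mono hb.le_E h, fun h => ?_⟩
  exact fun g hg => (sSup_le fun L ⟨D, hb⟩ x hx => h D L hb x hx :
    blockE p P M T ≤ MulAction.stabilizer (Γ W) w) hg

theorem smul_fixE {g : Γ W} (hg : g ∈ P) {e : W} (he : e ∈ fix (blockE p P M T)) :
    g • e ∈ fix (blockE p P M T) := by
  refine mem_fixE.2 fun D L hb => ?_
  obtain ⟨D', L', hb', e'⟩ := exists_cj H hg hb
  rw [← e']
  exact smul_mem_fix_cj (mem_fixE.1 he D' L' hb')

/-- An element of `P` trivial on the fixed space of the blocks and on each block is trivial. -/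
theorem eq_one {c : Γ W} (hc : c ∈ P) (h1 : ∀ e ∈ fix (blockE p P M T), c • e = e)
    (h2 : ∀ D L, IsBlock p P M T D L → ∀ w : W, c • w - w ∈ fix L) : c = 1 := by
  set U := fix (blockE p P M T) with hU
  have hR : IsPGroup p (P ⊓ ch U : Subgroup (Γ W)) := fun a =>
    ⟨1, Subtype.ext (by simpa using (ch_el H.mp.hp).2 a a.2.2)⟩
  have hle : ∀ g ∈ P, cj g (P ⊓ ch U) ≤ P ⊓ ch U := by
    rintro g hg _ ⟨a, ha, rfl⟩
    exact ⟨P.mul_mem (P.mul_mem hg ha.1) (P.inv_mem hg),
      ch_cj ha.2 (fun u hu => smul_fixE H hg hu) (fun u hu => smul_fixE H (inv_mem hg) hu)⟩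
  have hbot := H.mp.core (P ⊓ ch U) inf_le_left hR fun g hg =>
    Subgroup.eq_of_le_of_card_ge (hle g hg) (card_cj g _).ge
  have hmem : c ∈ P ⊓ ch U := ⟨hc, h1, fun w => mem_fixE.2 fun D L hb => h2 D L hb w⟩
  rw [hbot] at hmem
  exact Subgroup.mem_bot.1 hmem

theorem exists_sign (s : Finset (Subgroup (Γ W))) : ∃ g ∈ blockE p P M T,
    ∀ D L, IsBlock p P M T D L → ∀ w : W,
      (D ∈ s → g • w + w ∈ fix L) ∧ (D ∉ s → g • w - w ∈ fix L) := by
  classical
  induction s using Finset.induction with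
  | empty => exact ⟨1, one_mem _, fun D L _ w => ⟨by simp, by simp⟩⟩
  | insert D₀ s hnot ih =>
    obtain ⟨g, hgE, hg⟩ := ih
    by_cases hblk : ∃ L₀, IsBlock p P M T D₀ L₀
    swap
    · refine ⟨g, hgE, fun D L hb w => ⟨fun hD => ?_, fun hD => ?_⟩⟩
      · rcases Finset.mem_insert.1 hD with rfl | hD
        · exact absurd ⟨L, hb⟩ hblk
        · exact (hg D L hb w).1 hD
      · exact (hg D L hb w).2 fun e => hD (Finset.mem_insert_of_mem e)
    obtain ⟨L₀, hb₀⟩ := hblk
    obtain ⟨S, x⟩ := id hb₀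
    set z₀ : Γ W := ((x.fr.ρ.symm (-1) : L₀) : Γ W)
    have hz₀ : z₀ ∈ L₀ := (x.fr.ρ.symm (-1)).2
    have hzneg : ∀ w : W, z₀ • w + w ∈ fix L₀ := fun w => by
      rw [← x.fr.ker, map_add]
      show x.fr.ψ (((x.fr.ρ.symm (-1) : L₀) : Γ W) • w) + x.fr.ψ w = 0
      rw [x.fr.compat, MulEquiv.apply_symm_apply, Matrix.SpecialLinearGroup.coe_neg,
        Matrix.SpecialLinearGroup.coe_one, Matrix.neg_mulVec, Matrix.one_mulVec, neg_add_cancel]
    refine ⟨z₀ * g, mul_mem (hb₀.le_E hz₀) hgE, fun D L hb w => ?_⟩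
    by_cases hD : D = D₀
    · subst hD
      obtain rfl := IsBlock.unique H hb hb₀
      refine ⟨fun _ => ?_, fun e => absurd (Finset.mem_insert_self _ _) e⟩
      have e : (z₀ * g) • w + w = (z₀ • g • w + g • w) - (g • w - w) := by rw [mul_smul]; abel
      rw [e]
      exact sub_mem (hzneg _) ((hg D L hb w).2 hnot)
    · have ho := hb₀.other H hb (Ne.symm hD) hz₀ (g • w)
      refine ⟨fun hs => ?_, fun hs => ?_⟩
      · have e : (z₀ * g) • w + w = (z₀ • g • w - g • w) + (g • w + w) := by rw [mul_smul]; abel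
        rw [e]
        exact add_mem ho ((hg D L hb w).1 ((Finset.mem_insert.1 hs).resolve_left hD))
      · have e : (z₀ * g) • w - w = (z₀ • g • w - g • w) + (g • w - w) := by rw [mul_smul]; abel
        rw [e]
        exact add_mem ho ((hg D L hb w).2 fun e => hs (Finset.mem_insert_of_mem e))

/-- The central involution. -/
theorem exists_z : ∃ z ∈ blockE p P M T, (∀ g ∈ P, Commute z g) ∧ z * z = 1 ∧
    ∀ w : W, z • w + w ∈ fix P := by
  classical
  haveI := Fintype.ofFinite (Subgroup (Γ W))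
  obtain ⟨z, hzE, hz⟩ := exists_sign H Finset.univ
  have hzL : ∀ D L, IsBlock p P M T D L → ∀ w : W, z • w + w ∈ fix L := fun D L hb w =>
    (hz D L hb w).1 (Finset.mem_univ _)
  have hzP := blockE_le H hzE
  have hcomm : ∀ g ∈ P, Commute z g := by
    intro g hg
    have h1 : g * z * g⁻¹ * z⁻¹ = 1 := by
      refine eq_one H (mul_mem (mul_mem (mul_mem hg hzP) (inv_mem hg)) (inv_mem hzP)) (fun e he => ?_)
        fun D L hb w => ?_
      · rw [mul_smul, mul_smul, mul_smul, he _ (inv_mem hzE), smul_fixE H (inv_mem hg) he z hzE,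
          smul_inv_smul]
      · obtain ⟨D', L', hb', e'⟩ := exists_cj H hg hb
        have h1 : g • (z • g⁻¹ • z⁻¹ • w + g⁻¹ • z⁻¹ • w) ∈ fix L := by
          rw [← e']
          exact smul_mem_fix_cj (hzL D' L' hb' _)
        have h2 := hzL D L hb (z⁻¹ • w)
        rw [smul_inv_smul] at h2
        have e : (g * z * g⁻¹ * z⁻¹) • w - w =
            g • (z • g⁻¹ • z⁻¹ • w + g⁻¹ • z⁻¹ • w) - (w + z⁻¹ • w) := by
          rw [smul_add, smul_inv_smul, mul_smul, mul_smul, mul_smul]; abel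
        rw [e]
        exact sub_mem h1 h2
    rw [mul_inv_eq_one, mul_inv_eq_iff_eq_mul] at h1
    exact h1.symm
  have hzz : z * z = 1 := by
    refine eq_one H (mul_mem hzP hzP) (fun e he => by rw [mul_smul, he _ hzE, he _ hzE])
      fun D L hb w => ?_
    have e : (z * z) • w - w = (z • z • w + z • w) - (z • w + w) := by rw [mul_smul]; abel
    rw [e]
    exact sub_mem (hzL D L hb _) (hzL D L hb _)
  refine ⟨z, hzE, hcomm, hzz, ?_⟩
  let U : AddSubgroup W := (fix P).comap (DistribSMul.toAddMonoidHom W z + AddMonoidHom.id W)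
  have hU : U = ⊤ := by
    refine H.span U (fun w hw => ?_) fun g hg u hu => ?_
    · show z • w + w ∈ fix P
      rw [← gen H, fix_sup]
      refine ⟨mem_fixE.2 fun D L hb => hzL D L hb w, fun t ht => ?_⟩
      rw [smul_add, hw t ht, ← mul_smul, ← (hcomm t (H.mp.TP ht)).eq, mul_smul, hw t ht]
    · show z • g • u + g • u ∈ fix P
      have hu' : z • u + u ∈ fix P := hu
      rw [← mul_smul, (hcomm g hg).eq, mul_smul, ← smul_add, hu' g hg]
      exact hu'
  exact fun w => (hU ▸ AddSubgroup.mem_top w : w ∈ U)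

theorem fixE_le {e : W} (he : e ∈ fix (blockE p P M T)) : e ∈ fix P := by
  obtain ⟨z, hzE, -, -, hz⟩ := exists_z H
  have h := hz e
  rw [he z hzE] at h
  exact half H.mp.hp H.odd h

/-- An element of `P` fixes every point it moves only inside the fixed space of the blocks. -/
theorem fixed_of_mem_fixE {g : Γ W} (hg : g ∈ P) {x : W}
    (h : g • x - x ∈ fix (blockE p P M T)) : g • x = x := by
  obtain ⟨z, hzE, hzc, -, hz⟩ := exists_z H
  have hd : z • (g • x - x) = g • x - x := h z hzE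
  have hs := hz x
  have h1 : z • (g • x - x) = -(g • x - x) := by
    have hzg : z • g • x = g • z • x := by rw [← mul_smul, (hzc g hg).eq, mul_smul]
    have hzx : z • x = (z • x + x) - x := by abel
    rw [smul_sub, hzg, hzx, smul_sub, hs g hg]
    abel
  rw [hd, eq_neg_iff_add_eq_zero] at h1
  have h2 : g • x - x ∈ (⊥ : AddSubgroup W) :=
    half H.mp.hp H.odd (by rw [h1]; exact zero_mem _)
  exact sub_eq_zero.1 (AddSubgroup.mem_bot.1 h2)

theorem IsBlock.exists_vec (hb : IsBlock p P M T D L) : ∃ v ∈ fix T, v ∉ fix L := by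
  obtain ⟨v, hv, hvP⟩ := H.mp.vec
  refine ⟨v, hv, fun hvL => hvP ?_⟩
  rw [← gen H, fix_sup]
  refine ⟨mem_fixE.2 fun D' L' hb' => ?_, hv⟩
  obtain ⟨t, ht, -, rfl⟩ := hb.exists_conj H hb'
  have := smul_mem_fix_cj (g := t) hvL
  rwa [hv t ht] at this

end CfsgLib.CharTransfer
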