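import Cfsg.Agent.Lib.Techniques.CharTransfer.Baumann
import Cfsg.Agent.Lib.PushingUp.UniqueMax
import Cfsg.Agent.S2764

/-!
For odd `p` the nontrivial characteristic subgroups of a Sylow `p`-subgroup control transfer.
-/

set_option autoImplicit false
set_option linter.unusedSectionVars false
set_option linter.style.haveILetI false

namespace CfsgLib.CharTransfer

open CfsgLib.Techniques.Fusion
open CfsgLib.LocalEven.MinPar.Bridge
open CfsgLib.PLocal
open Subgroup
open scoped IsMulCommutative MatrixGroups commutatorElement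

universe u

/-- In `SL₂` of characteristic `p` the elements of `p`-power order are quadratic. -/
theorem sl2_quadratic {F : Type*} [Field F] {p : ℕ} [Fact p.Prime] [CharP F p] (m : SL(2, F)) {k : ℕ}
    (hm : m ^ p ^ k = 1) (v : Fin 2 → F) :
    m.1.mulVec (m.1.mulVec v - v) = m.1.mulVec v - v := by
  have hmk : m.1 ^ p ^ k = 1 := by
    rw [← Matrix.SpecialLinearGroup.coe_pow, hm, Matrix.SpecialLinearGroup.coe_one]
  have h0 : (m.1 - 1) ^ p ^ k = 0 := by
    rw [sub_pow_char_pow_of_commute p k (Commute.one_right m.1), hmk, one_pow, sub_self]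
  have hnil : IsNilpotent (m.1 - 1) := ⟨_, h0⟩
  have h2 : (m.1 - 1) ^ 2 = 0 := by
    have hc := (Matrix.isNilpotent_charpoly_sub_pow_of_isNilpotent hnil)
    have hch : (m.1 - 1).charpoly = Polynomial.X ^ Fintype.card (Fin 2) := by
      have := hc.eq_zero
      exact sub_eq_zero.1 this
    have := Matrix.aeval_self_charpoly (m.1 - 1)
    rw [hch] at this
    simpa using this
  have h3 : ((m.1 - 1) ^ 2).mulVec v = 0 := by rw [h2, Matrix.zero_mulVec]
  rw [pow_two, ← Matrix.mulVec_mulVec, Matrix.sub_mulVec, Matrix.one_mulVec, Matrix.sub_mulVec,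
    Matrix.one_mulVec] at h3
  exact sub_eq_zero.1 h3

variable {p : ℕ} [Fact p.Prime]

/-- The functors. -/
def allFunctors (p : ℕ) : Set (∀ (Q : Type u) [Group Q], Subgroup Q) :=
  {W | Cfsg.IsCharPFunctor.{u} p W}

open scoped Classical in
/-- A functor with a prescribed value at a group. -/
noncomputable def fixedFunctor {S₀ : Type u} [Group S₀] (K : Subgroup S₀) :
    ∀ (Q : Type u) [Group Q], Subgroup Q :=
  fun Q _ => if h : Nonempty (S₀ ≃* Q) then K.map h.some.toMonoidHom else Subgroup.center Q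

theorem isCharPFunctor_fixed {S₀ : Type u} [Group S₀] {K : Subgroup S₀} (hK : K ≠ ⊥)
    (hc : K.Characteristic) : Cfsg.IsCharPFunctor.{u} p (fixedFunctor K) := by
  classical
  refine ⟨fun Q _ _ hQ hnt => ?_, fun Q R _ _ _ hQ φ => ?_⟩
  · unfold fixedFunctor
    split
    · exact fun e => hK ((Subgroup.map_eq_bot_iff_of_injective _ (MulEquiv.injective _)).1 e)
    · haveI := hnt
      haveI := hQ.center_nontrivial
      exact (Subgroup.nontrivial_iff_ne_bot _).1 inferInstance
  · unfold fixedFunctor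
    by_cases h : Nonempty (S₀ ≃* Q)
    · have h' : Nonempty (S₀ ≃* R) := ⟨h.some.trans φ⟩
      rw [dif_pos h, dif_pos h', Subgroup.map_map]
      have e := Subgroup.characteristic_iff_map_eq.1 hc ((h.some.trans φ).trans h'.some.symm)
      conv_rhs => rw [← e, Subgroup.map_map]
      congr 1
      exact MonoidHom.ext fun x => by simp
    · have h' : ¬ Nonempty (S₀ ≃* R) := fun ⟨e⟩ => h ⟨e.trans φ.symm⟩
      rw [dif_neg h, dif_neg h']
      ext x
      simp only [Subgroup.mem_map, Subgroup.mem_center_iff, MulEquiv.coe_toMonoidHom]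
      constructor
      · rintro ⟨y, hy, rfl⟩ r
        obtain ⟨q, rfl⟩ := φ.surjective r
        rw [← map_mul, ← map_mul, hy q]
      · intro hx
        refine ⟨φ.symm x, fun q => φ.injective ?_, by simp⟩
        simpa using hx (φ q)

variable {X : Type u} [Group X] [Finite X]

theorem hasAllChars (S : Sylow p X) : HasAllChars (allFunctors.{u} p) S := by
  intro K hK hc
  refine ⟨fixedFunctor K, isCharPFunctor_fixed hK hc, ?_⟩
  classical
  show (fixedFunctor K ↥(S : Subgroup X)).map _ = _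
  congr 1
  unfold fixedFunctor
  rw [dif_pos ⟨MulEquiv.refl _⟩]
  exact Subgroup.characteristic_iff_map_eq.1 hc _

/-- A minimal failure for all characteristic functors has the module set-up. -/
theorem failed_of_allChars {𝓦 : Set (∀ (Q : Type u) [Group Q], Subgroup Q)} {S : Sylow p X} (hodd : Odd p)
    (hmf : IsMinimalFailure p 𝓦 S) (hd : HasAllChars 𝓦 S) : Failed p 𝓦 S := by
  have hne : (S : Subgroup X) ≠ ⊥ := fun e =>
    hmf.pCore_ne_sylow (le_antisymm (CfsgLib.PCore.pCore_le_sylow S) (e ▸ bot_le))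
  have hmov : ∃ z ∈ ZS S, ∃ g : X, g * z ≠ z * g := by
    by_contra h
    push Not at h
    refine not_normal_of_char hmf hd (Z0_ne_bot hne) Z0_characteristic ⟨fun z hz g => ?_⟩
    change z ∈ ZS S at hz
    show g * z * g⁻¹ ∈ ZS S
    rwa [h z hz g, mul_inv_cancel_right]
  refine ⟨hodd, hmf, hmov, ?_, fun L hL hLS hSL => eq_top_of_char_inf hmf hd hLS ?_⟩
  · intro hle
    have hle' : thompson p (S : Subgroup X) ≤ Cfsg.pCore p X :=
      (le_inf (thompson_le p _) hle).trans (inf_centralizer_of_moved hmf hmov).le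
    have e := thompson_eq_of_le (CfsgLib.PCore.pCore_le_sylow S) hle'
    have hn : (thompson p (S : Subgroup X)).Normal := by
      rw [← e, ← normalizer_eq_top_iff, eq_top_iff]
      refine le_trans (le_of_eq ?_) (normalizer_le_normalizer_thompson p (Cfsg.pCore p X))
      exact (normalizer_eq_top_iff.2 (Cfsg.pCore_normal p X)).symm
    set J₀ := thompson p (⊤ : Subgroup ↥(S : Subgroup X))
    have hmap : J₀.map (S : Subgroup X).subtype = thompson p (S : Subgroup X) := by
      rw [← thompson_map (S : Subgroup X).subtype_injective, map_subtype_top]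
    have hJc : J₀.Characteristic := by
      rw [Subgroup.characteristic_iff_map_eq]
      intro φ
      rw [← thompson_map (f := φ.toMonoidHom) φ.injective, Subgroup.map_top_of_surjective φ.toMonoidHom φ.surjective]
    refine not_normal_of_char hmf hd (fun h0 => hne ?_) hJc (hmap ▸ hn)
    obtain ⟨A, hA⟩ := exists_isMaxElemIn p (S : Subgroup X)
    by_contra hS
    obtain ⟨z, hz, hz1⟩ := (Subgroup.bot_or_exists_ne_one _).resolve_left (Z0_ne_bot (S := S) hS)
    have hzS : (z : X) ∈ ZS S := ⟨z, hz, rfl⟩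
    have hzA := hA.mem_of_centralizes z.2 (mem_ZS hzS).1 fun a ha => (mem_ZS hzS).2 a (hA.le ha)
    have := hA.le_thompson hzA
    rw [← hmap, h0, Subgroup.map_bot, Subgroup.mem_bot] at this
    exact hz1 (Subtype.ext this)
  · rw [hSL, ← WJ, ← B0_map, Subgroup.subgroupOf,
      Subgroup.comap_map_eq_self_of_injective (S : Subgroup X).subtype_injective]
    exact B0_characteristic

/-- There is no minimal failure. -/
theorem Failed.false {𝓦 : Set (∀ (Q : Type u) [Group Q], Subgroup Q)} {S : Sylow p X}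
    (F : Failed p 𝓦 S) (hd : HasAllChars 𝓦 S) : False := by
  haveI := F.VS_comm
  haveI := VS_normal (S := S)
  obtain ⟨-, K₀, fld, fin, n, hn, hcard, ⟨e⟩⟩ := F.exists_sl2
  set π := CfsgLib.CharTransfer.actHom (VS_normal (S := S))
  let φ : X →* Matrix.ProjectiveSpecialLinearGroup (Fin 2) K₀ :=
    (QuotientGroup.mk' (Subgroup.center SL(2, K₀))).comp (e.toMonoidHom.comp π.rangeRestrict)
  have hφ : Function.Surjective φ :=
    (QuotientGroup.mk'_surjective _).comp (e.surjective.comp π.rangeRestrict_surjective)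
  obtain ⟨F₀, fld₀, fin₀, hF₀, ⟨e₀⟩⟩ := CfsgLib.PushingUp.exists_psl_field (p := p) hn hcard φ.ker
    (QuotientGroup.quotientKerEquivOfSurjective φ hφ)
  haveI : CharP F₀ p := by
    obtain ⟨q, hq⟩ := CharP.exists F₀
    haveI : Fact q.Prime := ⟨CharP.char_is_prime F₀ q⟩
    obtain ⟨k, hk, hk'⟩ := FiniteField.card F₀ q
    have h1 : q ∣ p ^ n := by rw [← hF₀, hk']; exact dvd_pow_self q k.ne_zero
    rwa [(Nat.prime_dvd_prime_iff_eq Fact.out Fact.out).1 (hk.dvd_of_dvd_pow h1)] at hq
  obtain ⟨M, hSM, hMne, hM, -⟩ := exists_max F.mf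
  have huniq : ∃! M : Subgroup X, IsCoatom M ∧ (S : Subgroup X) ≤ M := by
    refine ⟨M, ⟨⟨hMne, fun H hH => ?_⟩, hSM⟩, fun M' hM' => ?_⟩
    · by_contra hne
      exact hH.not_ge (hM H (hSM.trans hH.le) hne)
    · rcases eq_or_lt_of_le (hM M' hM'.2 hM'.1.1) with h | h
      · exact h
      · exact absurd (hM'.1.2 M h) hMne
  obtain ⟨-, hnat⟩ := Cfsg.Agent.S2764.result S F.hc huniq φ.ker F₀ n hn hF₀ ⟨e₀⟩
    (fun T hT hTc => not_normal_of_char F.mf hd hT hTc)
  obtain ⟨u, huS, huP⟩ : ∃ u ∈ (S : Subgroup X), u ∉ Cfsg.pCore p X := by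
    by_contra h
    push Not at h
    exact F.mf.pCore_ne_sylow (le_antisymm (CfsgLib.PCore.pCore_le_sylow S) h)
  obtain ⟨U, V, hch, hUP, hbad⟩ := F.mf.exists_chiefFactor huS huP
  refine hbad ?_
  obtain ⟨hVU, hUn, hVn, -⟩ := id hch
  haveI := hVn
  have hVu : ⁅V, Subgroup.zpowers u⁆ ≤ V := Subgroup.commutator_le_left _ _
  have hp3 : 3 ≤ p := by
    have := (Fact.out : p.Prime).two_le
    obtain ⟨j, hj⟩ := F.odd
    omega
  suffices h2 : Cfsg.iterCommutator U (Subgroup.zpowers u) 2 ≤ V by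
    have key : ∀ i, Cfsg.iterCommutator U (Subgroup.zpowers u) (2 + i) ≤ V := by
      intro i
      induction i with
      | zero => exact h2
      | succ i ih => exact (Subgroup.commutator_mono ih le_rfl).trans hVu
    have := key (p - 1 - 2)
    rwa [show 2 + (p - 1 - 2) = p - 1 by omega] at this
  show ⁅⁅U, Subgroup.zpowers u⁆, Subgroup.zpowers u⁆ ≤ V
  by_cases hcen : ⁅U, (⊤ : Subgroup X)⁆ ≤ V
  · exact (Subgroup.commutator_mono ((Subgroup.commutator_mono le_rfl le_top).trans hcen) le_rfl).trans hVu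
  let q := QuotientGroup.mk' V
  let Ub := U.map q
  obtain ⟨-, ρ, ψ, -, -, hact⟩ := hnat U V hUP hch hcen
  let m := ρ (⟨q u, Subgroup.mem_top _⟩ : (⊤ : Subgroup (X ⧸ V)))
  obtain ⟨k, hk⟩ := S.2 ⟨u, huS⟩
  have huk : u ^ p ^ k = 1 := by simpa using congrArg Subtype.val hk
  have hm : m ^ p ^ k = 1 := by
    rw [← map_pow, ← map_one ρ]
    congr 1
    apply Subtype.ext
    show q u ^ p ^ k = 1
    rw [← map_pow, huk, map_one]
  have hquad := sl2_quadratic m hm
  -- `u` commutes with each `[x, u]` modulo `V`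
  have hUb : Ub.Normal := hUn.map q (QuotientGroup.mk'_surjective V)
  have hstep : ∀ x ∈ Ub, Commute (q u) (q u * x * (q u)⁻¹ * x⁻¹) := by
    intro x hx
    obtain ⟨w, hw, hψw⟩ := hact ⟨q u, Subgroup.mem_top _⟩ ⟨x, hx⟩
    set d : ↥Ub := w * ⟨x, hx⟩⁻¹ with hd
    have hdX : (d : X ⧸ V) = q u * x * (q u)⁻¹ * x⁻¹ := by
      simp [hd, hw]
    obtain ⟨w', hw', hψw'⟩ := hact ⟨q u, Subgroup.mem_top _⟩ d
    have hψd : ψ (Additive.ofMul d) =
        m.1.mulVec (ψ (Additive.ofMul ⟨x, hx⟩)) - ψ (Additive.ofMul ⟨x, hx⟩) := by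
      rw [hd, ofMul_mul, ofMul_inv, ← sub_eq_add_neg, map_sub, hψw]
    have e : w' = d := Additive.ofMul.injective (ψ.injective (by rw [hψw', hψd]; exact hquad _))
    rw [← hdX]
    have h := congrArg Subtype.val e
    rw [hw'] at h
    exact mul_inv_eq_iff_eq_mul.1 h
  -- translate
  have h1 : (⁅⁅U, Subgroup.zpowers u⁆, Subgroup.zpowers u⁆).map q = ⊥ := by
    rw [Subgroup.map_commutator, Subgroup.map_commutator, MonoidHom.map_zpowers,
      Subgroup.commutator_eq_bot_iff_le_centralizer]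
    have hcen : ∀ x ∈ Ub, ∀ j : ℤ, q u ^ j * x * (q u ^ j)⁻¹ * x⁻¹ ∈
        Subgroup.centralizer ({q u} : Set (X ⧸ V)) := by
      intro x hx j
      induction j using Int.induction_on with
      | zero => simp
      | succ i ih =>
        have hy : q u ^ (i : ℤ) * x * (q u ^ (i : ℤ))⁻¹ ∈ Ub := hUb.conj_mem x hx _
        have h := mul_mem (Subgroup.mem_centralizer_singleton_iff.2 (hstep _ hy).eq.symm :
          _ ∈ Subgroup.centralizer ({q u} : Set (X ⧸ V))) ih
        rw [zpow_add_one]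
        have e : q u ^ (i : ℤ) * q u * x * (q u ^ (i : ℤ) * q u)⁻¹ * x⁻¹ =
            q u * (q u ^ (i : ℤ) * x * (q u ^ (i : ℤ))⁻¹) * (q u)⁻¹ *
              (q u ^ (i : ℤ) * x * (q u ^ (i : ℤ))⁻¹)⁻¹ *
              (q u ^ (i : ℤ) * x * (q u ^ (i : ℤ))⁻¹ * x⁻¹) := by
          rw [← (Commute.self_zpow (q u) i).eq]; group
        rwa [e]
      | pred i ih =>
        have hy : q u ^ (-(i : ℤ) - 1) * x * (q u ^ (-(i : ℤ) - 1))⁻¹ ∈ Ub := hUb.conj_mem x hx _
        have h := mul_mem (inv_mem (Subgroup.mem_centralizer_singleton_iff.2 (hstep _ hy).eq.symm :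
          _ ∈ Subgroup.centralizer ({q u} : Set (X ⧸ V)))) ih
        have e : q u ^ (-(i : ℤ) - 1) * x * (q u ^ (-(i : ℤ) - 1))⁻¹ * x⁻¹ =
            (q u * (q u ^ (-(i : ℤ) - 1) * x * (q u ^ (-(i : ℤ) - 1))⁻¹) * (q u)⁻¹ *
              (q u ^ (-(i : ℤ) - 1) * x * (q u ^ (-(i : ℤ) - 1))⁻¹)⁻¹)⁻¹ *
              (q u ^ (-(i : ℤ)) * x * (q u ^ (-(i : ℤ)))⁻¹ * x⁻¹) := by
          have hp : q u ^ (-(i : ℤ)) = q u * q u ^ (-(i : ℤ) - 1) := by
            rw [← zpow_one_add]; ring_nf
          rw [hp]; group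
        rwa [e]
    refine (Subgroup.commutator_le.2 fun a ha b hb => ?_).trans
      (le_of_eq (Subgroup.centralizer_closure {q u}).symm |>.trans (le_of_eq ?_))
    · obtain ⟨j, rfl⟩ := Subgroup.mem_zpowers_iff.1 hb
      have h := inv_mem (hcen a ha j)
      rwa [show (q u ^ j * a * (q u ^ j)⁻¹ * a⁻¹)⁻¹ = ⁅a, q u ^ j⁆ by
        rw [commutatorElement_def]; group] at h
    · rw [← Subgroup.zpowers_eq_closure]
  rw [Subgroup.map_eq_bot_iff, QuotientGroup.ker_mk'] at h1
  exact h1

/-- For odd `p` transfer is controlled by the characteristic subgroups of a Sylow subgroup. -/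
theorem transCtrl_allFunctors (hodd : Odd p) : ∀ (n : ℕ) (X : Type u) [Group X] [Finite X],
    Nat.card X = n → TransCtrl p (allFunctors.{u} p) X := by
  intro n
  induction n using Nat.strong_induction_on with
  | _ n ih =>
    intro X _ _ hX
    by_contra hfail
    obtain ⟨S⟩ := (inferInstance : Nonempty (Sylow p X))
    have hne : (allFunctors.{u} p).Nonempty :=
      ⟨fun Q _ => Subgroup.center Q, by
        refine ⟨fun Q _ _ hQ hnt => ?_, fun Q R _ _ _ _ φ => ?_⟩
        · haveI := hQ.center_nontrivial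
          exact (Subgroup.nontrivial_iff_ne_bot _).1 inferInstance
        · ext x
          simp only [Subgroup.mem_map, Subgroup.mem_center_iff, MulEquiv.coe_toMonoidHom]
          constructor
          · rintro ⟨y, hy, rfl⟩ r
            obtain ⟨q, rfl⟩ := φ.surjective r
            rw [← map_mul, ← map_mul, hy q]
          · intro hx
            refine ⟨φ.symm x, fun q => φ.injective ?_, by simp⟩
            simpa using hx (φ q)⟩
    have hmf := isMinimalFailure_of_not_transCtrl (fun W hW => hW) hne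
      (fun Y _ _ _ hlt => ih _ (hX ▸ hlt) Y rfl) hfail S
    exact Failed.false (failed_of_allChars hodd hmf (hasAllChars S)) (hasAllChars S)

end CfsgLib.CharTransfer
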