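import Cfsg.Agent.Lib.Techniques.CharTransfer.BlockAction

/-!
The product `R` of the minimal offenders in `T`: it contains all offenders of largest weight in
`T`, it is the part of `T` fixing its fixed space, and it is the intersection of `T` with the
product of the subgroups of type `SL₂`.
-/

set_option autoImplicit false
set_option linter.unusedSectionVars false
set_option linter.style.haveILetI false

namespace CfsgLib.CharTransfer

open CfsgLib.LocalEven.PGV CfsgLib.LocalEven.OffenderSL2 CfsgLib.LocalEven.MinPar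
open CfsgLib.LocalEven.NaturalRecognition
open scoped MatrixGroups

universe v

variable {W : Type v} [AddCommGroup W] [Finite W] {p : ℕ} [Fact p.Prime]
  {P M T D L D' L' : Subgroup (Γ W)} (H : Hyp p P M T)
include H

/-- A set of minimal offenders in `T` generates an exact offender. -/
theorem exact_sup (s : Finset (Subgroup (Γ W))) (hs : ∀ D ∈ s, ∃ L, IsBlock p P M T D L) :
    Cfsg.IsElementaryAbelian p (s.sup id) ∧
      Nat.card W ≤ Nat.card ↥(s.sup id) * Nat.card (fix (s.sup id)) ∧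
      ∀ D L, IsBlock p P M T D L → D ∉ s → s.sup id ≤ trivMod (fix L) := by
  classical
  induction s using Finset.induction with
  | empty =>
    rw [Finset.sup_empty]
    refine ⟨⟨⟨⟨fun a b => Subsingleton.elim _ _⟩⟩, fun a ha => by
      rw [Subgroup.mem_bot.1 ha, one_pow]⟩, ?_, fun D L _ _ => bot_le⟩
    rw [Subgroup.card_bot, one_mul]
    refine le_of_eq ?_
    have e : fix (⊥ : Subgroup (Γ W)) = ⊤ :=
      eq_top_iff.2 fun w _ b hb => by rw [Subgroup.mem_bot.1 hb, one_smul]
    rw [e, AddSubgroup.card_top]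
  | insert D₀ s hnot ih =>
    obtain ⟨hel, hcard, htriv⟩ := ih fun D hD => hs D (Finset.mem_insert_of_mem hD)
    obtain ⟨L₀, hb₀⟩ := hs D₀ (Finset.mem_insert_self _ _)
    rw [Finset.sup_insert]
    set Rs := s.sup id with hRs
    have hRT : Rs ≤ T := Finset.sup_le fun D hD => (hs D (Finset.mem_insert_of_mem hD)).choose_spec.DT
    have hcomm : ∀ a ∈ D₀, ∀ b ∈ Rs, Commute a b := by
      have hle : Rs ≤ Subgroup.centralizer (D₀ : Set (Γ W)) := Finset.sup_le fun D hD => by
        obtain ⟨L, hb⟩ := hs D (Finset.mem_insert_of_mem hD)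
        exact fun b hb' => Subgroup.mem_centralizer_iff.2 fun a ha =>
          (H.mp.commute_of_le hb₀.off hb.off hb₀.DT hb.DT a ha b hb').eq
      exact fun a ha b hb => Subgroup.mem_centralizer_iff.1 (hle hb) a ha
    refine ⟨el_sup hb₀.off.el hel hcomm, ?_, fun D L hb hD => sup_le ?_ ?_⟩
    · have hinf : D₀ ⊓ Rs = ⊥ := (Subgroup.eq_bot_iff_forall _).2 fun c hc =>
        IsBlock.eq_one_of_triv H hb₀ (hb₀.DL hc.1) fun w => htriv D₀ L₀ hb₀ hnot hc.2 w
      have h1 := card_mul_commute hcomm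
      show Nat.card W ≤ Nat.card ↥(D₀ ⊔ Rs) * Nat.card (fix (D₀ ⊔ Rs))
      rw [hinf, Subgroup.card_bot, mul_one] at h1
      have htop : fix D₀ ⊔ fix Rs = ⊤ := by
        obtain ⟨S, x⟩ := id hb₀
        refine top_le_iff.1 ((x.fr.com_sup x.hS x.hq).ge.trans (sup_le ?_ ?_))
        · refine le_trans ?_ le_sup_right
          rw [le_fix_iff]
          refine Finset.sup_le fun D hD => ?_
          obtain ⟨L, S', y⟩ := hs D (Finset.mem_insert_of_mem hD)
          have hne : D ≠ D₀ := fun e => hnot (e ▸ hD)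
          exact le_fix_iff.1 ((y.commute_comp H.mp x hne).2.trans (fix_mono y.hS.AP))
        · exact hb₀.fix_le.trans le_sup_left
      have h2 := addCard_mul (fix D₀) (fix Rs)
      rw [htop, AddSubgroup.card_top] at h2
      rw [fix_sup, ← h1]
      refine Nat.le_of_mul_le_mul_left ?_ (Nat.card_pos : 0 < Nat.card W)
      calc Nat.card W * Nat.card W
          ≤ (Nat.card D₀ * Nat.card (fix D₀)) * (Nat.card Rs * Nat.card (fix Rs)) :=
            Nat.mul_le_mul hb₀.off.off hcard
        _ = Nat.card D₀ * Nat.card Rs * (Nat.card (fix D₀) * Nat.card (fix Rs)) := by ring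
        _ = _ := by rw [h2]; ring
    · exact hb₀.DL.trans (hb₀.other H hb fun e => hD (e ▸ Finset.mem_insert_self _ _))
    · exact htriv D L hb fun e => hD (Finset.mem_insert_of_mem e)

theorem blockR_exact : Cfsg.IsElementaryAbelian p (blockR p P M T) ∧
    Nat.card (blockR p P M T) * Nat.card (fix (blockR p P M T)) = Nat.card W := by
  classical
  haveI := Fintype.ofFinite (Subgroup (Γ W))
  obtain ⟨hel, hcard, -⟩ := exact_sup H (Finset.univ.filter fun D => ∃ L, IsBlock p P M T D L)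
    (fun D hD => (Finset.mem_filter.1 hD).2)
  have e : (Finset.univ.filter fun D => ∃ L, IsBlock p P M T D L).sup id = blockR p P M T :=
    le_antisymm (Finset.sup_le fun D hD => (Finset.mem_filter.1 hD).2.choose_spec.le_R)
      (sSup_le fun D hD => Finset.le_sup (f := id) (Finset.mem_filter.2 ⟨Finset.mem_univ _, hD⟩))
  rw [e] at hel hcard
  exact ⟨hel, le_antisymm (H.mp.card_le ((blockR_le H).trans H.mp.TP) hel) hcard⟩

theorem commute_R {d : Γ W} (hb : IsBlock p P M T D L) {c : Γ W} (hc : c ∈ blockR p P M T)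
    (hd : d ∈ D) : Commute c d :=
  commute_of_mem (blockR_exact H).1 hc (hb.le_R hd)

/-- An element of `T` fixing the line of every block lies in `R`. -/
theorem mem_R {a : Γ W} (haT : a ∈ T) (hn : ∀ D L, IsBlock p P M T D L → cj a D = D)
    (h : ∀ D L, IsBlock p P M T D L → ∀ w ∈ fix D, a • w - w ∈ fix L) : a ∈ blockR p P M T := by
  obtain ⟨hel, hcard⟩ := blockR_exact H
  set R := blockR p P M T with hR
  have hRP : R ≤ P := (blockR_le H).trans H.mp.TP
  have hfixR : ∀ w, (∀ D L, IsBlock p P M T D L → w ∈ fix D) → w ∈ fix R := fun w hw g hg =>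
    (sSup_le fun D ⟨L, hb⟩ x hx => hw D L hb x hx : R ≤ MulAction.stabilizer (Γ W) w) hg
  have hch : ∀ g ∈ T, (∀ D L, IsBlock p P M T D L → cj g D = D) →
      (∀ D L, IsBlock p P M T D L → ∀ w ∈ fix D, g • w - w ∈ fix L) → g ∈ ch (fix R) := by
    intro g hgT hgn hg
    refine ⟨fun x hx => fixed_of_mem_fixE H (H.mp.TP hgT) (mem_fixE.2 fun D L hb =>
      hg D L hb x (fix_mono hb.le_R hx)), fun w => hfixR _ fun D L hb => ?_⟩
    obtain ⟨S, y⟩ := id hb
    exact triv_of_line H y hgT (hgn D L hb) (hg D L hb) w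
  have hle : R ≤ P ⊓ ch (fix R) := le_inf hRP fun c hc =>
    hch c (blockR_le H hc) (fun D L hb => cj_eq_of_commute fun d hd => commute_R H hb hc hd)
      fun D L hb => by
        obtain ⟨S, y⟩ := id hb
        exact line_of_commute H y (blockR_le H hc) fun d hd => commute_R H hb hc hd
  have h1 := H.mp.card_le (D := P ⊓ ch (fix R)) inf_le_left (el_mono (ch_el H.mp.hp) inf_le_right)
  have e : R = P ⊓ ch (fix R) := by
    refine Subgroup.eq_of_le_of_card_ge hle ?_
    refine Nat.le_of_mul_le_mul_right ?_ (Nat.card_pos : 0 < Nat.card (fix R))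
    rw [hcard]
    exact le_trans (Nat.mul_le_mul_left _ (AddSubgroup.card_le_of_le
      (le_fix_ch.trans (fix_mono inf_le_right)))) h1
  rw [e]
  exact ⟨H.mp.TP haT, hch a haT hn h⟩

theorem IsBlock.exists_torus (hb : IsBlock p P M T D L) : ∃ x : W, x ∉ fix L ∧ x ∈ fix D ∧
    ∀ D' L', IsBlock p P M T D' L' → D' ≠ D → x ∈ fix L' := by
  obtain ⟨S, y⟩ := hb
  obtain ⟨x, hx, hxψ⟩ := y.fr.exists_com_eq y.hS y.hq ![1, 0]
  refine ⟨x, fun e => ?_, (y.fr.mem_fix x).2 (by simp [hxψ]), fun D' L' hb' hne => ?_⟩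
  · rw [← y.fr.ker, hxψ] at e
    simpa using congrFun e 0
  · obtain ⟨S', y'⟩ := hb'
    exact (y'.commute_comp H.mp y hne).2 hx

/-- An element of `T` moving a block takes its torus vector into the fixed space of that block. -/
theorem smul_mem_of_moved (hb : IsBlock p P M T D L) {t : Γ W} (ht : t ∈ T) (hne : cj t D ≠ D)
    {x : W} (hx : ∀ D' L', IsBlock p P M T D' L' → D' ≠ D → x ∈ fix L') : t • x ∈ fix L := by
  have hb' := hb.conj H (inv_mem ht)
  have hne' : cj t⁻¹ D ≠ D := fun e => hne (by conv_lhs => rw [← e]; exact cj_cj_inv t D)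
  have := smul_mem_fix_cj (g := t) (hx _ _ hb' hne')
  rwa [cj_cj_inv] at this

/-- Quadratic elements of order `p` normalise every block. -/
theorem cj_of_quadratic {a : Γ W} (haT : a ∈ T) (hap : a ^ p = 1)
    (hq : ∀ w : W, a • (a • w - w) = a • w - w) (hb : IsBlock p P M T D L) : cj a D = D := by
  by_contra hne
  obtain ⟨x, hxL, -, hx⟩ := hb.exists_torus H
  have h1 := smul_mem_of_moved H hb haT hne hx
  have h2 := smul_mem_of_moved H hb (mul_mem haT haT) (fun e => hne ?_) hx
  · refine hxL ?_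
    have e : x = (a • x + a • x) - (a * a) • x := by
      have := hq x
      rw [smul_sub, ← mul_smul] at this
      have h3 : (a * a) • x = a • x - x + a • x := by rw [← this]; abel
      rw [h3]; abel
    rw [e]
    exact sub_mem (add_mem h1 h1) h2
  · obtain ⟨j, hj⟩ := H.odd
    have hpow : ∀ n : ℕ, cj ((a * a) ^ n) D = D := by
      intro n
      induction n with
      | zero => simp [cj_one]
      | succ n ih => rw [pow_succ, cj_mul, e, ih]
    have ea : (a * a) ^ (j + 1) = a := by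
      rw [← pow_two, ← pow_mul, show 2 * (j + 1) = p + 1 by omega, pow_succ, hap, one_mul]
    have := hpow (j + 1)
    rwa [ea] at this

/-- A quadratic exact offender in `T` lies in `R`. -/
theorem quad_le_R {A : Subgroup (Γ W)} (hAT : A ≤ T) (hel : Cfsg.IsElementaryAbelian p A) :
    quad A ≤ blockR p P M T := by
  intro a ha
  have hq : ∀ w : W, a • (a • w - w) = a • w - w := fun w => quad_fixes ha ha.1 (com_mem a w)
  have hn : ∀ D L, IsBlock p P M T D L → cj a D = D := fun D L hb =>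
    cj_of_quadratic H (hAT ha.1) (hel.2 a ha.1) hq hb
  exact mem_R H (hAT ha.1) hn fun D L hb => by
    obtain ⟨S, y⟩ := id hb
    exact line_of_quadratic H y (hAT ha.1) (hn D L hb) hq

/-- An exact offender in `T` lies in `R`. -/
theorem le_R {A : Subgroup (Γ W)} (hAT : A ≤ T) (hel : Cfsg.IsElementaryAbelian p A)
    (hoff : Nat.card W ≤ Nat.card A * Nat.card (fix A)) : A ≤ blockR p P M T := by
  classical
  rcases eq_or_ne A ⊥ with hA1 | hA1
  · rw [hA1]; exact bot_le
  obtain ⟨hRel, hRcard⟩ := blockR_exact H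
  set R := blockR p P M T with hR
  have hRP : R ≤ P := (blockR_le H).trans H.mp.TP
  have hAP : A ≤ P := hAT.trans H.mp.TP
  have hAex : Nat.card A * Nat.card (fix A) = Nat.card W := le_antisymm (H.mp.card_le hAP hel) hoff
  have hbest : Best A := fun B hB => by
    rw [hAex]; exact H.mp.card_le (hB.trans hAP) (el_mono hel hB)
  obtain ⟨hQcard, hQfix, -⟩ := quad_spec H.mp.hp hel hbest hA1
  set Q := quad A with hQdef
  rw [hAex] at hQcard
  have hQR : Q ≤ R := quad_le_R H hAT hel
  have hRbest : Best R := fun B hB => by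
    rw [hRcard]; exact H.mp.card_le (hB.trans hRP) (el_mono hRel hB)
  -- the blocks outside `Q`
  have hexcl : ∀ D L, IsBlock p P M T D L → ¬ D ≤ Q → fix Q ⊔ fix D = ⊤ := by
    intro D L hb hDQ
    obtain ⟨h1, h2⟩ := inter_max hRel hRbest hQR hb.le_R (by rw [hQcard, hRcard])
      (by rw [H.mp.exact hb.off, hRcard])
    rw [hRcard] at h1
    rcases eq_or_ne (Q ⊓ D) ⊥ with e | e
    · have h3 : fix (⊥ : Subgroup (Γ W)) = ⊤ :=
        eq_top_iff.2 fun w _ b hb => by rw [Subgroup.mem_bot.1 hb, one_smul]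
      rw [e, h3] at h2
      exact h2.symm
    · have h3 := hb.off.strict _ inf_le_right e fun e' => hDQ (e' ▸ inf_le_left)
      rw [h1, H.mp.exact hb.off] at h3
      exact absurd h3 (lt_irrefl _)
  have hQtriv : ∀ D L, IsBlock p P M T D L → ¬ D ≤ Q → Q ≤ trivMod (fix L) := by
    intro D L hb hDQ c hc w
    obtain ⟨f, hf, d, hd, rfl⟩ := AddSubgroup.mem_sup.1 (hexcl D L hb hDQ ▸ AddSubgroup.mem_top w)
    rw [smul_add, hf c hc, add_sub_add_left_eq_sub]
    obtain ⟨S, y⟩ := id hb
    exact line_of_commute H y (hAT (quad_le A hc))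
      (fun e he => commute_R H hb (hQR hc) he) d hd
  have hcomQ : ∀ D L, IsBlock p P M T D L → ¬ D ≤ Q → ∀ (S : Subgroup (Γ W))
      (y : Comp p P M T D L S), com y.fr.d ≤ fix Q := by
    intro D L hb hDQ S y x hx c hc
    refine fixed_of_mem_fixE H (hAP (quad_le A hc)) (mem_fixE.2 fun D' L' hb' => ?_)
    by_cases e : D' = D
    · subst e
      rw [IsBlock.unique H hb' hb]
      exact hQtriv D' L hb hDQ hc x
    · obtain ⟨S', y'⟩ := id hb'
      have hx' := (y'.commute_comp H.mp y e).2 hx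
      have hcL : cj c L' = L' := hb'.cjL_of_cj H (blockR_le H (hQR hc))
        (cj_eq_of_commute fun d hd => commute_R H hb' (hQR hc) hd)
      exact sub_mem (smul_fix_of_cj hcL hx') hx'
  -- the common kernel of the blocks outside `Q`
  let K : AddSubgroup W :=
    { carrier := {w | ∀ D L, IsBlock p P M T D L → ¬ D ≤ Q → w ∈ fix L}
      add_mem' := fun ha hb D L h h' => add_mem (ha D L h h') (hb D L h h')
      zero_mem' := fun D L _ _ => zero_mem _
      neg_mem' := fun ha D L h h' => neg_mem (ha D L h h') }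
  have hKinv : ∀ a ∈ A, ∀ w ∈ K, a • w ∈ K := by
    intro a ha w hw D L hb hDQ
    have hb' := hb.conj H (inv_mem (hAT ha))
    have hnQ : ¬ cj a⁻¹ D ≤ Q := fun e => hDQ (by
      have h1 := cj_mono' (g := a) e
      rw [cj_cj_inv] at h1
      refine h1.trans (le_of_eq (cj_eq_of_commute fun c hc => ?_))
      exact commute_of_mem hel ha (quad_le A hc))
    have := smul_mem_fix_cj (g := a) (hw _ _ hb' hnQ)
    rwa [cj_cj_inv] at this
  have hcover : K ⊔ (comA A ⊔ fix A) = ⊤ := by
    refine top_le_iff.1 fun w _ => ?_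
    suffices key : ∀ s : Finset (Subgroup (Γ W)), ∃ f ∈ fix Q, ∀ D L, IsBlock p P M T D L → ¬ D ≤ Q →
        D ∈ s → w - f ∈ fix L by
      haveI := Fintype.ofFinite (Subgroup (Γ W))
      obtain ⟨f, hf, hwf⟩ := key Finset.univ
      exact AddSubgroup.mem_sup.2 ⟨w - f, fun D L hb hDQ => hwf D L hb hDQ (Finset.mem_univ _),
        f, hQfix hf, sub_add_cancel w f⟩
    intro s
    induction s using Finset.induction with
    | empty => exact ⟨0, zero_mem _, fun D L _ _ hD => absurd hD (Finset.notMem_empty D)⟩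
    | insert D₀ s hnot ih =>
      obtain ⟨f, hf, hwf⟩ := ih
      by_cases hblk : ∃ L₀, IsBlock p P M T D₀ L₀ ∧ ¬ D₀ ≤ Q
      swap
      · refine ⟨f, hf, fun D L hb hDQ hD => hwf D L hb hDQ ((Finset.mem_insert.1 hD).resolve_left ?_)⟩
        rintro rfl
        exact hblk ⟨L, hb, hDQ⟩
      obtain ⟨L₀, hb₀, hQ₀⟩ := hblk
      obtain ⟨S, y⟩ := id hb₀
      obtain ⟨x, hx, l, hl, e⟩ :=
        AddSubgroup.mem_sup.1 (y.fr.com_sup y.hS y.hq ▸ AddSubgroup.mem_top (w - f))
      refine ⟨f + x, add_mem hf (hcomQ D₀ L₀ hb₀ hQ₀ S y hx), fun D L hb hDQ hD => ?_⟩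
      have e' : w - (f + x) = l := by rw [← sub_sub, ← e, add_sub_cancel_left]
      rw [e']
      by_cases hD₀ : D = D₀
      · subst hD₀
        rwa [IsBlock.unique H hb hb₀]
      · obtain ⟨S', y'⟩ := id hb
        have h1 := sub_mem (hwf D L hb hDQ ((Finset.mem_insert.1 hD).resolve_left hD₀))
          ((y'.commute_comp H.mp y hD₀).2 hx)
        rwa [← e, add_sub_cancel_left] at h1
  -- so `A` acts trivially modulo this kernel
  have hAK : ∀ a ∈ A, ∀ w, a • w - w ∈ K := by
    set U := comA A ⊔ K with hU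
    have hUinv : ∀ a ∈ A, ∀ u ∈ U, a • u ∈ U := by
      intro a ha u hu
      obtain ⟨c, hc, k, hk, rfl⟩ := AddSubgroup.mem_sup.1 hu
      rw [smul_add]
      refine AddSubgroup.add_mem_sup ?_ (hKinv a ha k hk)
      have hle : comA A ≤ (comA A).comap (DistribSMul.toAddMonoidHom W a) := iSup₂_le fun b hb x hx =>
        AddSubgroup.mem_iSup_of_mem b (AddSubgroup.mem_iSup_of_mem hb
          (smul_mem_com (commute_of_mem hel ha hb) hx))
      exact hle hc
    suffices hUK : U ≤ K from fun a ha w => hUK (AddSubgroup.mem_sup_left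
      (AddSubgroup.mem_iSup_of_mem a (AddSubgroup.mem_iSup_of_mem ha (com_mem a w))))
    by_contra hne
    haveI := Fintype.ofFinite (AddSubgroup W)
    have hKU : K ≤ U := le_sup_right
    obtain ⟨U', hU', hmax⟩ := (Finset.univ.filter fun U' : AddSubgroup W =>
        K ≤ U' ∧ U' ≤ U ∧ ¬ U ≤ U' ∧ ∀ a ∈ A, ∀ u ∈ U', a • u ∈ U').exists_max_image
      (fun U' => Nat.card U') ⟨K, by simp [hKU, hne]; exact hKinv⟩
    simp only [Finset.mem_filter, Finset.mem_univ, true_and] at hU' hmax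
    obtain ⟨hKU', hU'U, hU'ne, hU'inv⟩ := hU'
    obtain ⟨u, hu, huU', hfix⟩ := exists_fixed_mod H.mp.hp (H.mp.hT.to_le hAT) hU'inv hUinv hU'ne
    have hall : ∀ a ∈ A, ∀ v ∈ U, a • v - v ∈ U' := by
      set U'' := U' ⊔ AddSubgroup.zmultiples u with hU''
      have hstep : ∀ a ∈ A, ∀ v ∈ U'', a • v - v ∈ U' := by
        intro a ha v hv
        obtain ⟨v', hv', z, hz, rfl⟩ := AddSubgroup.mem_sup.1 hv
        obtain ⟨n, rfl⟩ := AddSubgroup.mem_zmultiples_iff.1 hz
        have hn : a • (n • u) = n • (a • u) := map_zsmul (DistribSMul.toAddMonoidHom W a) n u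
        have e : a • (v' + n • u) - (v' + n • u) = (a • v' - v') + n • (a • u - u) := by
          rw [smul_add, hn, zsmul_sub]; abel
        rw [e]
        exact add_mem (sub_mem (hU'inv a ha v' hv') hv') (zsmul_mem (hfix a ha) n)
      have hU''U : U'' ≤ U := sup_le hU'U (AddSubgroup.zmultiples_le_of_mem hu)
      suffices U ≤ U'' from fun a ha v hv => hstep a ha v (this hv)
      by_contra hnU
      have hinv'' : ∀ a ∈ A, ∀ v ∈ U'', a • v ∈ U'' := fun a ha v hv => by
        have := add_mem (AddSubgroup.mem_sup_left (hstep a ha v hv)) hv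
        rwa [sub_add_cancel] at this
      have hle := hmax U'' ⟨hKU'.trans le_sup_left, hU''U, hnU, hinv''⟩
      refine huU' ?_
      rw [AddSubgroup.eq_of_le_of_card_ge (le_sup_left : U' ≤ U'') hle]
      exact AddSubgroup.mem_sup_right (AddSubgroup.mem_zmultiples u)
    refine hU'ne (sup_le (iSup₂_le fun a ha => ?_) hKU')
    rintro _ ⟨w, rfl⟩
    obtain ⟨k, hk, r, hr, rfl⟩ := AddSubgroup.mem_sup.1 (hcover ▸ AddSubgroup.mem_top w)
    obtain ⟨c, hc, f, hf, rfl⟩ := AddSubgroup.mem_sup.1 hr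
    show a • (k + (c + f)) - (k + (c + f)) ∈ U'
    rw [smul_add, smul_add, hf a ha]
    have e : a • k + (a • c + f) - (k + (c + f)) = (a • k - k) + (a • c - c) := by abel
    rw [e]
    exact add_mem (hKU' (sub_mem (hKinv a ha k hk) hk)) (hall a ha c (AddSubgroup.mem_sup_left hc))
  intro a ha
  have haT := hAT ha
  have hcomm : ∀ D L, IsBlock p P M T D L → D ≤ Q → ∀ d ∈ D, Commute a d := fun D L _ hDQ d hd =>
    commute_of_mem hel ha (quad_le A (hDQ hd))
  have hn : ∀ D L, IsBlock p P M T D L → cj a D = D := by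
    intro D L hb
    by_cases hDQ : D ≤ Q
    · exact cj_eq_of_commute (hcomm D L hb hDQ)
    by_contra hne
    obtain ⟨x, hxL, -, hx⟩ := hb.exists_torus H
    refine hxL ?_
    have := sub_mem (smul_mem_of_moved H hb haT hne hx) (hAK a ha x D L hb hDQ)
    rwa [sub_sub_cancel] at this
  refine mem_R H haT hn fun D L hb => ?_
  by_cases hDQ : D ≤ Q
  · obtain ⟨S, y⟩ := id hb
    exact line_of_commute H y haT (hcomm D L hb hDQ)
  · exact fun w _ => hAK a ha w D L hb hDQ

/-- An element of `T` fixing the fixed space of `R` lies in `R`. -/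
theorem mem_R_of_fix {t : Γ W} (ht : t ∈ T) (h : ∀ w ∈ fix (blockR p P M T), t • w = w) :
    t ∈ blockR p P M T := by
  have hfixR : ∀ w, (∀ D L, IsBlock p P M T D L → w ∈ fix D) → w ∈ fix (blockR p P M T) :=
    fun w hw g hg => (sSup_le fun D ⟨L, hb⟩ x hx => hw D L hb x hx :
      blockR p P M T ≤ MulAction.stabilizer (Γ W) w) hg
  have hxR : ∀ D L, IsBlock p P M T D L → ∀ x ∈ fix D,
      (∀ D' L', IsBlock p P M T D' L' → D' ≠ D → x ∈ fix L') → t • x = x := fun D L hb x hxD hx =>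
    h x (hfixR x fun D' L' hb' => by
      by_cases e : D' = D
      · subst e; exact hxD
      · exact hb'.fix_le (hx D' L' hb' e))
  have hn : ∀ D L, IsBlock p P M T D L → cj t D = D := by
    intro D L hb
    by_contra hne
    obtain ⟨x, hxL, hxD, hx⟩ := hb.exists_torus H
    have := smul_mem_of_moved H hb ht hne hx
    rw [hxR D L hb x hxD hx] at this
    exact hxL this
  refine mem_R H ht hn fun D L hb w hw => ?_
  obtain ⟨S, y⟩ := id hb
  obtain ⟨c, hc, l, hl, rfl⟩ :=
    AddSubgroup.mem_sup.1 (y.fr.com_sup y.hS y.hq ▸ AddSubgroup.mem_top w)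
  have hcD : c ∈ fix D := by
    have := sub_mem hw (hb.fix_le hl)
    rwa [add_sub_cancel_right] at this
  have hc' : t • c = c := hxR D L hb c hcD fun D' L' hb' hne => by
    obtain ⟨S', y'⟩ := hb'
    exact (y'.commute_comp H.mp y hne).2 hc
  rw [smul_add, hc', add_sub_add_left_eq_sub]
  exact sub_mem (smul_fix_of_cj (hb.cjL_of_cj H ht (hn D L hb)) hl) hl

/-- `T ∩ E = R`. -/
theorem inf_le_R : T ⊓ blockE p P M T ≤ blockR p P M T := by
  rintro g ⟨hgT, hgE⟩
  have hn : ∀ D L, IsBlock p P M T D L → cj g D = D := fun D L hb =>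
    hb.eq_of_cj H hgT (blockE_cj H hb hgE)
  refine mem_R H hgT hn fun D L hb => ?_
  obtain ⟨S, y⟩ := id hb
  let K : Subgroup (Γ W) :=
    { carrier := {g | ∃ l ∈ L, ∀ w, g • w - l • w ∈ fix L}
      one_mem' := ⟨1, one_mem _, fun w => by simp⟩
      mul_mem' := by
        rintro a b ⟨l, hl, ha⟩ ⟨l', hl', hb'⟩
        refine ⟨l * l', mul_mem hl hl', fun w => ?_⟩
        have h2 := hb' w
        have e : (a * b) • w - (l * l') • w =
            (a • b • w - l • b • w) + l • (b • w - l' • w) := by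
          rw [mul_smul, mul_smul, smul_sub]; abel
        rw [e, h2 l hl]
        exact add_mem (ha _) h2
      inv_mem' := by
        rintro a ⟨l, hl, ha⟩
        refine ⟨l⁻¹, inv_mem hl, fun w => ?_⟩
        have h1 := ha (a⁻¹ • w)
        rw [smul_inv_smul] at h1
        have e : a⁻¹ • w - l⁻¹ • w = -(l⁻¹ • (w - l • a⁻¹ • w)) := by
          rw [smul_sub, inv_smul_smul]; abel
        rw [e, h1 l⁻¹ (inv_mem hl)]
        exact neg_mem h1 }
  have hEK : blockE p P M T ≤ K := sSup_le fun L' ⟨D', hb'⟩ g hg => by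
    by_cases e : D' = D
    · subst e
      exact ⟨g, IsBlock.unique H hb' hb ▸ hg, fun w => by simp⟩
    · refine ⟨1, one_mem _, fun w => ?_⟩
      rw [one_smul]
      exact hb'.other H hb e hg w
  obtain ⟨l, hl, hgl⟩ := hEK hgE
  obtain ⟨c⟩ := exists_coords H y hgT (hn D L hb)
  have hψ : ∀ w, y.fr.ψ (g • w) = (y.fr.ρ ⟨l, hl⟩).1.mulVec (y.fr.ψ w) := fun w => by
    rw [← y.fr.compat, ← sub_eq_zero, ← map_sub, y.fr.ker]
    exact hgl w
  have hαk : ∀ s, c.α s = (y.fr.ρ ⟨l, hl⟩).1 0 0 * s := fun s => by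
    obtain ⟨w, hw⟩ := y.fr.surj ![s, 0]
    have hw1 : y.fr.ψ w 1 = 0 := by simp [hw]
    have := (c.line w hw1).1
    rw [hψ, hw] at this
    simpa [Matrix.mulVec, dotProduct, Fin.sum_univ_two] using this.symm
  have hk : (y.fr.ρ ⟨l, hl⟩).1 0 0 = 1 := by
    have := hαk c.v₀
    rw [c.α_v₀] at this
    exact (mul_left_eq_self₀.1 this.symm).resolve_right c.v₀_ne
  exact fun w hw => line_fixed H y c (fun s => by rw [hαk, hk, one_mul]) hw

/-- Every offender-containing normal subgroup of `T` contains `R`. -/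
theorem R_le_of_offender {J A : Subgroup (Γ W)} (hJ : ∀ t ∈ T, cj t J ≤ J) (hAJ : A ≤ J)
    (hAT : A ≤ T) (hel : Cfsg.IsElementaryAbelian p A) (hA1 : A ≠ ⊥)
    (hoff : Nat.card W ≤ Nat.card A * Nat.card (fix A)) : blockR p P M T ≤ J := by
  classical
  haveI := Fintype.ofFinite (Subgroup (Γ W))
  obtain ⟨B, hB, hmin⟩ := (Finset.univ.filter fun B : Subgroup (Γ W) =>
      B ≤ A ∧ B ≠ ⊥ ∧ Nat.card W ≤ Nat.card B * Nat.card (fix B)).exists_min_image (fun B => Nat.card B)
    ⟨A, by simp [hA1, hoff]⟩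
  simp only [Finset.mem_filter, Finset.mem_univ, true_and] at hB hmin
  have hBoff : Off p P B := ⟨hB.1.trans (hAT.trans H.mp.TP), el_mono hel hB.1, hB.2.1, hB.2.2,
    fun C hC hC1 hCB => by
      refine lt_of_lt_of_le ?_ hB.2.2
      by_contra hlt
      exact hCB (Subgroup.eq_of_le_of_card_ge hC (hmin C ⟨hC.trans hB.1, hC1, not_lt.1 hlt⟩))⟩
  obtain ⟨L, hb⟩ := exists_block H hBoff (hB.1.trans hAT)
  refine sSup_le fun D ⟨L', hb'⟩ => ?_
  obtain ⟨t, ht, rfl, -⟩ := hb.exists_conj H hb'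
  exact (cj_mono' (hB.1.trans hAJ)).trans (hJ t ht)

/-- `E` is generated by the conjugates of `R`. -/
theorem blockE_le_conj :
    blockE p P M T ≤ ⨆ g ∈ blockE p P M T, cj g (blockR p P M T) := by
  refine sSup_le fun L ⟨D, hb⟩ => ?_
  obtain ⟨S, y⟩ := id hb
  rw [← y.hS.gen _ y.fr.n_mem (y.fr.n_not_mem y.hS)]
  refine sup_le ?_ ?_
  · refine le_iSup₂_of_le 1 (one_mem _) ?_
    rw [cj_one]
    exact hb.le_R
  · exact le_iSup₂_of_le y.fr.n (hb.le_E y.fr.n_mem) (cj_mono' hb.le_R)

/-- If `R = T`, then `P` is `SL₂`. -/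
theorem sl2_of_eq (hRT : T ≤ blockR p P M T) : ∃ (F : Type v) (_ : Field F) (_ : Fintype F) (n : ℕ),
    1 ≤ n ∧ Fintype.card F = p ^ n ∧ Nonempty (↥P ≃* SL(2, F)) := by
  obtain ⟨D, L, hb⟩ := exists_block' H
  obtain ⟨S, y⟩ := id hb
  have huniq : ∀ D' L', IsBlock p P M T D' L' → L' = L := by
    intro D' L' hb'
    obtain ⟨t, ht, rfl, rfl⟩ := hb.exists_conj H hb'
    exact hb.cjL_of_cj H ht (cj_eq_of_commute fun d hd => commute_R H hb (hRT ht) hd)
  have hPL : P = L := by
    refine le_antisymm ?_ hb.LP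
    rw [← gen H]
    exact sup_le (sSup_le fun L' ⟨D', hb'⟩ => (huniq D' L' hb').le)
      (hRT.trans ((blockR_le_E H).trans (sSup_le fun L' ⟨D', hb'⟩ => (huniq D' L' hb').le)))
  obtain ⟨k, hk⟩ := IsPGroup.iff_card.1 hb.off.pgroup
  refine ⟨y.fr.F, y.fr.fld, y.fr.fin, k, Nat.pos_of_ne_zero fun e => hb.off.A1
    (Subgroup.card_eq_one.1 (by rw [hk, e, pow_zero])), y.fr.card.trans hk, ⟨?_⟩⟩
  exact (MulEquiv.subgroupCongr hPL).trans y.fr.ρ

end CfsgLib.CharTransfer
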