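import Cfsg.Agent.Lib.Techniques.CharTransfer.Transfer
import Cfsg.Agent.Lib.Techniques.CharTransfer.Offenders
import Cfsg.Agent.Lib.LocalEven.MinPar.Bridge
import Cfsg.Agent.Lib.PLocal.Thompson

/-!
The module `V = ⟨Ω₁(Z(S))^X⟩` of a minimal failure: `X / C(V)` is `p`-minimal with an offender.
-/

set_option autoImplicit false
set_option linter.unusedSectionVars false
set_option linter.style.haveILetI false

namespace CfsgLib.CharTransfer

open CfsgLib.LocalEven.PGV CfsgLib.LocalEven.OffenderSL2 CfsgLib.LocalEven.MinPar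
open CfsgLib.LocalEven.MinPar.Bridge
open CfsgLib.PLocal
open Subgroup
open scoped IsMulCommutative

universe u

theorem card_sup_mul_card_inf {G : Type*} [Group G] [Finite G] (D V : Subgroup G) [V.Normal] :
    Nat.card ↥(D ⊔ V) * Nat.card ↥(D ⊓ V) = Nat.card D * Nat.card V := by
  have h1 : (D ⊓ V).relIndex D * Nat.card ↥(D ⊓ V) = Nat.card D := by
    rw [mul_comm, ← Nat.card_congr (Subgroup.subgroupOfEquivOfLe (inf_le_left : D ⊓ V ≤ D)).toEquiv]
    exact Subgroup.card_mul_index _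
  have h2 : V.relIndex (D ⊔ V) * Nat.card V = Nat.card ↥(D ⊔ V) := by
    rw [mul_comm, ← Nat.card_congr (Subgroup.subgroupOfEquivOfLe (le_sup_right : V ≤ D ⊔ V)).toEquiv]
    exact Subgroup.card_mul_index _
  rw [Subgroup.inf_relIndex_left] at h1
  rw [Subgroup.relIndex_sup_right] at h2
  rw [← h1, ← h2]; ring

/-- `R` lies in a conjugate of the image of a Sylow subgroup, for `R` in the image. -/
theorem exists_cj_sylow {H : Type*} [Group H] [Finite H] {W : Type*} [AddCommGroup W] [Finite W]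
    {p : ℕ} [Fact p.Prime] (π : H →* Γ W) (S : Sylow p H) {R : Subgroup (Γ W)} (hR : R ≤ π.range)
    (hRp : IsPGroup p R) : ∃ x : H, R ≤ cj (π x) ((S : Subgroup H).map π) := by
  let T' : Sylow p π.range := S.mapSurjective π.rangeRestrict_surjective
  have hR' : IsPGroup p (R.subgroupOf π.range) := hRp.of_equiv (subgroupOfEquivOfLe hR).symm
  obtain ⟨Q, hQ⟩ := hR'.exists_le_sylow
  obtain ⟨⟨_, x, rfl⟩, hg⟩ := MulAction.exists_smul_eq π.range T' Q
  refine ⟨x, fun r hr => ?_⟩
  have hr' : (⟨r, hR hr⟩ : π.range) ∈ (Q : Subgroup π.range) := hQ hr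
  rw [← hg, Sylow.smul_def, Sylow.pointwise_smul_def, Subgroup.mem_pointwise_smul_iff_inv_smul_mem]
    at hr'
  obtain ⟨s, hs, e⟩ := hr'
  refine mem_cj.2 ⟨s, hs, ?_⟩
  have := congrArg Subtype.val e
  simpa [MulAut.smul_def] using this

variable {p : ℕ} [Fact p.Prime] {X : Type u} [Group X] [Finite X]

/-- `Ω₁(Z(S))` inside `S`. -/
def Z0 (S : Sylow p X) : Subgroup ↥(S : Subgroup X) :=
  Cfsg.omegaOne p (Subgroup.center ↥(S : Subgroup X))

/-- `Ω₁(Z(S))`. -/
def ZS (S : Sylow p X) : Subgroup X := (Z0 S).map (S : Subgroup X).subtype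

/-- The module. -/
def VS (S : Sylow p X) : Subgroup X := Subgroup.normalClosure (ZS S : Set X)

variable {S : Sylow p X}

theorem ZS_le : ZS S ≤ (S : Subgroup X) := Subgroup.map_subtype_le _

theorem mem_ZS {z : X} (hz : z ∈ ZS S) :
    z ^ p = 1 ∧ ∀ s ∈ (S : Subgroup X), s * z = z * s := by
  obtain ⟨y, hy, rfl⟩ := hz
  haveI : IsMulCommutative (Subgroup.center ↥(S : Subgroup X)) := inferInstance
  have hel := omegaOne_elemAb p (Subgroup.center ↥(S : Subgroup X))
  refine ⟨?_, fun s hs => ?_⟩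
  · show ((y : ↥(S : Subgroup X)) : X) ^ p = 1
    rw [← Subgroup.coe_pow, hel.2 y hy, OneMemClass.coe_one]
  · exact congrArg Subtype.val (Subgroup.mem_center_iff.1 (omegaOne_le p _ hy) ⟨s, hs⟩)

theorem Z0_characteristic : (Z0 S).Characteristic := by
  rw [Subgroup.characteristic_iff_map_eq]
  intro φ
  rw [Z0, ← omegaOne_map (f := φ.toMonoidHom) φ.injective,
    Subgroup.characteristic_iff_map_eq.1 inferInstance φ]

theorem Z0_ne_bot (hS : (S : Subgroup X) ≠ ⊥) : Z0 S ≠ ⊥ := by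
  haveI : Nontrivial ↥(S : Subgroup X) := (Subgroup.nontrivial_iff_ne_bot _).2 hS
  haveI := S.2.center_nontrivial
  obtain ⟨k, hk, hk'⟩ := ((IsPGroup.to_subgroup S.2 (Subgroup.center _))).nontrivial_iff_card.1 inferInstance
  obtain ⟨z, hz⟩ := exists_prime_orderOf_dvd_card' (G := Subgroup.center ↥(S : Subgroup X)) p
    (hk' ▸ dvd_pow_self p hk.ne')
  intro h
  have hmem : (z : ↥(S : Subgroup X)) ∈ Z0 S := Subgroup.subset_closure
    ⟨z.2, by
      have h1 := pow_orderOf_eq_one z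
      rw [hz] at h1
      rw [← Subgroup.coe_pow, h1, OneMemClass.coe_one]⟩
  rw [h, Subgroup.mem_bot] at hmem
  have : z = 1 := Subtype.ext hmem
  rw [this, orderOf_one] at hz
  exact (Fact.out : p.Prime).ne_one hz.symm

theorem VS_normal : (VS S).Normal := Subgroup.normalClosure_normal

variable (hc : Subgroup.centralizer (Cfsg.pCore p X : Set X) ≤ Cfsg.pCore p X)
include hc

theorem ZS_le_core : ZS S ≤ Cfsg.pCore p X ⊓ centralizer (Cfsg.pCore p X : Set X) := by
  intro z hz
  have h : z ∈ centralizer (Cfsg.pCore p X : Set X) :=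
    mem_centralizer_iff.2 fun y hy => (mem_ZS hz).2 y (CfsgLib.PCore.pCore_le_sylow S hy)
  exact ⟨hc h, h⟩

theorem VS_le_core : VS S ≤ Cfsg.pCore p X ⊓ centralizer (Cfsg.pCore p X : Set X) := by
  haveI := Cfsg.pCore_normal p X
  exact Subgroup.normalClosure_le_normal (ZS_le_core hc)

theorem commute_VS {x v : X} (hx : x ∈ Cfsg.pCore p X) (hv : v ∈ VS S) : Commute x v :=
  mem_centralizer_iff.1 (VS_le_core hc hv).2 x hx

theorem VS_elemAb : Cfsg.IsElementaryAbelian p (VS S) := by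
  have hmem : ∀ v ∈ Group.conjugatesOfSet (ZS S : Set X), v ∈ VS S ∧ v ^ p = 1 := by
    intro v hv
    refine ⟨Subgroup.conjugatesOfSet_subset_normalClosure hv, ?_⟩
    obtain ⟨z, hz, hzv⟩ := Group.mem_conjugatesOfSet_iff.1 hv
    obtain ⟨g, hg⟩ := isConj_iff.1 hzv
    rw [← hg, conj_pow, (mem_ZS hz).1, mul_one, mul_inv_cancel]
  exact elemAb_closure
    (fun a ha b hb => commute_VS hc (VS_le_core hc (hmem a ha).1).1 (hmem b hb).1)
    fun a ha => (hmem a ha).2

end CfsgLib.CharTransfer
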