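import Cfsg.Agent.Lib.Techniques.Failure

/-!
A minimal failure of control of transfer by all characteristic subgroups: no characteristic
subgroup of the Sylow subgroup is normal, and no proper normal supplement of the Sylow subgroup
meets it in a characteristic subgroup.
-/

set_option autoImplicit false
set_option linter.unusedSectionVars false

namespace CfsgLib.CharTransfer

open Cfsg Subgroup CfsgLib.Techniques CfsgLib.Techniques.Fusion
open scoped commutatorElement

universe u

variable {p : ℕ} [Fact p.Prime] {X : Type u} [Group X] [Finite X]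
  {𝓦 : Set (∀ (Q : Type u) [Group Q], Subgroup Q)} {S : Sylow p X}

/-- The values at `S` of the functors are all nontrivial characteristic subgroups. -/
def HasAllChars (𝓦 : Set (∀ (Q : Type u) [Group Q], Subgroup Q)) (S : Sylow p X) : Prop :=
  ∀ K : Subgroup ↥(S : Subgroup X), K ≠ ⊥ → K.Characteristic →
    ∃ W ∈ 𝓦, inducedFunctor (G := X) W (S : Subgroup X) = K.map (S : Subgroup X).subtype

variable (hmf : IsMinimalFailure p 𝓦 S)
include hmf

theorem not_normal_of_char (hd : HasAllChars 𝓦 S) {K : Subgroup ↥(S : Subgroup X)} (hK : K ≠ ⊥) (hc : K.Characteristic) :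
    ¬ (K.map (S : Subgroup X).subtype).Normal := by
  intro hn
  obtain ⟨W, hW, e⟩ := hd K hK hc
  apply hmf.fail
  refine le_iSup₂_of_le _ ⟨W, hW, rfl⟩ ?_
  show _ ≤ (S : Subgroup X) ⊓ ⁅normalizer _, normalizer _⁆
  rw [e, normalizer_eq_top_iff.2 hn, ← _root_.commutator_def]
  exact inf_le_inf_right _ (CfsgLib.PCore.pCore_le_sylow S)

/-- The maximal subgroup over `S`. -/
theorem exists_max : ∃ M : Subgroup X, (S : Subgroup X) ≤ M ∧ M ≠ ⊤ ∧
    (∀ H : Subgroup X, (S : Subgroup X) ≤ H → H ≠ ⊤ → H ≤ M) ∧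
    (S : Subgroup X) ⊓ ⁅M, M⁆ ≤ transferTarget 𝓦 (S : Subgroup X) := by
  have hSne : (S : Subgroup X) ≠ ⊤ := sylow_ne_top S hmf.pCore_ne_sylow
  exact ⟨_, hmf.le_M le_rfl hSne, hmf.M_ne_top, fun H hH hne => hmf.le_M hH hne,
    hmf.inf_commutator_le (hmf.le_M le_rfl hSne) hmf.M_ne_top⟩

/-- A normal subgroup not supplementing `S` meets it inside `O_p(X)`. -/
theorem inf_le_pCore {N : Subgroup X} [N.Normal] (hNS : N ⊔ (S : Subgroup X) ≠ ⊤) :
    (S : Subgroup X) ⊓ N ≤ pCore p X := by
  obtain ⟨M, -, hMne, hM, -⟩ := exists_max hmf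
  by_cases hn : normalizer (((S : Subgroup X) ⊓ N : Subgroup X) : Set X) = ⊤
  · exact CfsgLib.PCore.le_pCore (normalizer_eq_top_iff.1 hn) (S.2.to_le inf_le_left)
  · exfalso
    apply hMne
    rw [eq_top_iff, ← sup_normalizer_inf_eq_top S N]
    refine sup_le (le_sup_left.trans (hM _ le_sup_right hNS)) (hM _ ?_ hn)
    exact fun s hs => mem_normalizer_inf (le_normalizer hs) (normalizer_eq_top N ▸ mem_top s)

/-- No proper normal supplement of `S` meets it in a subgroup where no functor has a normal value. -/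
theorem eq_top_of_inf {L : Subgroup X} [L.Normal] (hLS : L ⊔ (S : Subgroup X) = ⊤)
    (hvals : ∀ W ∈ 𝓦, (S : Subgroup X) ⊓ L ≠ ⊥ →
      ¬ (inducedFunctor (G := X) W ((S : Subgroup X) ⊓ L)).Normal) : L = ⊤ := by
  by_contra hL
  obtain ⟨M, hSM, -, hM, hMτ⟩ := exists_max hmf
  set T := (S : Subgroup X) ⊓ L with hT
  set τ₀ := (S : Subgroup X) ⊓ ⁅M, M⁆ with hτ₀
  have hTp : IsPGroup p T := S.2.to_le inf_le_left
  have hi : ¬ p ∣ T.relIndex L := not_dvd_relIndex_inf_normal S L
  -- the derived group of `L`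
  have hLτ : (S : Subgroup X) ⊓ ⁅L, L⁆ ≤ τ₀ := by
    have e : (S : Subgroup X) ⊓ ⁅L, L⁆ = T ⊓ ⁅L, L⁆ := by
      rw [hT, inf_assoc, inf_eq_right.2 (commutator_le_self L)]
    rw [e]
    refine inf_commutator_le_of_focalIn inf_le_right hTp hi
      (holdsOn_of_transCtrl hmf.functors inf_le_right hTp hi
        (hmf.proper L (IsSectionOf.of_subgroup L) (card_lt_of_ne_top hL)) fun W hW => ?_)
    rcases eq_or_ne T ⊥ with hT0 | hT0
    · intro D g _ hD _ a ha
      have : a = 1 := Subgroup.mem_bot.1 (hT0 ▸ hD ha)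
      simp [this]
    set K := inducedFunctor (G := X) W T with hKdef
    have hSN : (S : Subgroup X) ≤ normalizer (K : Set X) := fun s hs =>
      normalizer_le_normalizer_inducedFunctor (hmf.functors W hW) hTp
        (mem_normalizer_inf (le_normalizer hs) (normalizer_eq_top L ▸ mem_top s))
    have hNne : normalizer (K : Set X) ≠ ⊤ := fun e' => hvals W hW hT0 (normalizer_eq_top_iff.1 e')
    exact (focalIn_of_inf_commutator_le (M := M) (inf_le_left.trans hSM)
      (inf_le_inf_right _ inf_le_left)).mono le_rfl (inf_le_right.trans (hM _ hSN hNne))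
  -- the focal subgroup
  apply hmf.fail
  refine (inf_le_inf_right _ (CfsgLib.PCore.pCore_le_sylow S)).trans (le_trans ?_ hMτ)
  rw [_root_.commutator_def]
  refine inf_commutator_le_of_focalIn le_top S.2 (not_dvd_relIndex_sylow S le_top) ?_
  intro D g _ hD hgD a ha
  obtain ⟨l, hl, s, hs, rfl⟩ := mem_sup_of_normal_left.1 (hLS ▸ mem_top g)
  set y := s * a * s⁻¹ with hy
  have hyS : y ∈ (S : Subgroup X) := mul_mem (mul_mem hs (hD ha)) (inv_mem hs)
  have hgS : l * y * l⁻¹ ∈ (S : Subgroup X) := by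
    have := hgD (conj_mem_map_conj (l * s) ha)
    rwa [hy, show l * (s * a * s⁻¹) * l⁻¹ = l * s * a * (l * s)⁻¹ by group]
  have hc : l * y * l⁻¹ * y⁻¹ ∈ τ₀ := by
    set c := l * y * l⁻¹ * y⁻¹ with hcdef
    have hLn : L.Normal := inferInstance
    have hcS : c ∈ (S : Subgroup X) := mul_mem hgS (inv_mem hyS)
    have hcL : c ∈ L := by
      have := mul_mem hl (hLn.conj_mem _ (inv_mem hl) y)
      rwa [show l * (y * l⁻¹ * y⁻¹) = c by rw [hcdef]; group] at this
    set m := T.relIndex L with hm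
    -- a power of `l` lies in `T L'`
    have hpow : l ^ m ∈ T ⊔ ⁅L, L⁆ := by
      set U := (T ⊔ ⁅L, L⁆).subgroupOf L with hU
      haveI hUn : U.Normal := ⟨fun n hn k => by
        have h1 : ⁅(k : X), (n : X)⁆ ∈ T ⊔ ⁅L, L⁆ :=
          mem_sup_right (commutator_mem_commutator k.2 n.2)
        have h2 := mul_mem h1 (mem_subgroupOf.1 hn)
        rw [commutatorElement_def, inv_mul_cancel_right] at h2
        exact mem_subgroupOf.2 (by simpa using h2)⟩
      have hdvd : U.index ∣ m :=
        Subgroup.index_dvd_of_le (H := T.subgroupOf L) (K := U) (subgroupOf_mono L le_sup_left)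
      obtain ⟨k, hk⟩ := hdvd
      have h3 := pow_mem (Subgroup.pow_index_mem U (⟨l, hl⟩ : L)) k
      rw [← pow_mul, ← hk] at h3
      simpa using mem_subgroupOf.1 h3
    obtain ⟨t, ht, n, hn, htn⟩ := mem_sup_of_normal_right.1 hpow
    set π := QuotientGroup.mk' ⁅L, L⁆ with hπ
    have hcomm : ∀ a ∈ L, ∀ b ∈ L, Commute (π a) (π b) := fun a ha b hb => by
      have h1 : π ⁅a, b⁆ = 1 := (QuotientGroup.eq_one_iff _).2 (commutator_mem_commutator ha hb)
      rw [map_commutatorElement] at h1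
      exact commutatorElement_eq_one_iff_mul_comm.1 h1
    have hsplit : π c = π l * (π y * (π l)⁻¹ * (π y)⁻¹) := by
      rw [hcdef]; simp only [map_mul, map_inv]; group
    have hcm : π (c ^ m) = π ⁅t, y⁆ := by
      have h1 : Commute (π l) (π y * (π l)⁻¹ * (π y)⁻¹) := by
        have := hcomm l hl (y * l⁻¹ * y⁻¹) (hLn.conj_mem _ (inv_mem hl) y)
        simpa using this
      have h2 : π t = π l ^ m := by
        rw [← map_pow, ← htn, map_mul, show π n = 1 from (QuotientGroup.eq_one_iff n).2 hn, mul_one]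
      rw [map_pow, hsplit, h1.mul_pow, conj_pow, inv_pow, ← h2, map_commutatorElement,
        commutatorElement_def]
      group
    have htS : t ∈ (S : Subgroup X) := (mem_inf.1 ht).1
    have hty : ⁅t, y⁆ ∈ τ₀ := mem_inf.2 ⟨by
      rw [commutatorElement_def]
      exact mul_mem (mul_mem (mul_mem htS hyS) (inv_mem htS)) (inv_mem hyS),
      commutator_mem_commutator (hSM htS) (hSM hyS)⟩
    have hcmτ : c ^ m ∈ τ₀ := by
      have h1 : (⁅t, y⁆)⁻¹ * c ^ m ∈ τ₀ :=
        hLτ (mem_inf.2 ⟨mul_mem (inv_mem (mem_inf.1 hty).1) (pow_mem hcS m),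
          QuotientGroup.eq.1 hcm.symm⟩)
      have h2 := mul_mem hty h1
      rwa [mul_inv_cancel_left] at h2
    obtain ⟨k, hk⟩ := (IsPGroup.iff_orderOf.1 S.2) ⟨c, hcS⟩
    have hco : m.Coprime (orderOf c) := by
      rw [← Subgroup.orderOf_mk c hcS, hk]
      exact Nat.Coprime.pow_right _ (((Fact.out : p.Prime).coprime_iff_not_dvd.2 hi).symm)
    obtain ⟨j, hj⟩ := exists_pow_eq_self_of_coprime hco
    rw [← hj]
    exact pow_mem hcmτ j
  have hs' : y * a⁻¹ ∈ τ₀ := mem_inf.2 ⟨mul_mem hyS (inv_mem (hD ha)), by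
    rw [hy]
    exact commutator_mem_commutator (hSM hs) (hSM (hD ha))⟩
  have := mul_mem hc hs'
  rwa [show l * s * a * (l * s)⁻¹ * a⁻¹ = l * y * l⁻¹ * y⁻¹ * (y * a⁻¹) by rw [hy]; group]

/-- No proper normal supplement of `S` meets it in a characteristic subgroup. -/
theorem eq_top_of_char_inf (hd : HasAllChars 𝓦 S) {L : Subgroup X} [L.Normal] (hLS : L ⊔ (S : Subgroup X) = ⊤)
    (hchar : (((S : Subgroup X) ⊓ L).subgroupOf (S : Subgroup X)).Characteristic) : L = ⊤ := by
  refine eq_top_of_inf hmf hLS fun W hW hT0 hn => ?_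
  set T := (S : Subgroup X) ⊓ L with hT
  have hTp : IsPGroup p T := S.2.to_le inf_le_left
  set K := inducedFunctor (G := X) W T with hKdef
  set T₀ := T.subgroupOf (S : Subgroup X) with hT₀
  have hT₀p : IsPGroup p T₀ := hTp.of_equiv (subgroupOfEquivOfLe inf_le_left).symm
  have hT₀m : T₀.map (S : Subgroup X).subtype = T := map_subgroupOf_eq_of_le inf_le_left
  set K₀ := inducedFunctor (G := ↥(S : Subgroup X)) W T₀ with hK₀
  have hmap : K₀.map (S : Subgroup X).subtype = K := by
    rw [hK₀, hKdef, ← hT₀m, inducedFunctor_map_injective (hmf.functors W hW) _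
      (S : Subgroup X).subtype_injective hT₀p]
  have hK₀c : K₀.Characteristic := by
    rw [Subgroup.characteristic_iff_map_eq]
    intro φ
    rw [hK₀, ← inducedFunctor_map_injective (hmf.functors W hW) φ.toMonoidHom φ.injective hT₀p,
      (Subgroup.characteristic_iff_map_eq.1 hchar) φ]
  have hK₀ne : K₀ ≠ ⊥ := by
    intro h0
    have hnt : Nontrivial T₀ := by
      rw [Subgroup.nontrivial_iff_ne_bot]
      intro h1
      rw [h1, Subgroup.map_bot] at hT₀m
      exact hT0 hT₀m.symm
    exact (hmf.functors W hW).1 T₀ hT₀p hnt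
      ((Subgroup.map_eq_bot_iff_of_injective _ T₀.subtype_injective).1 h0)
  exact not_normal_of_char hmf hd hK₀ne hK₀c (hmap ▸ hn)

end CfsgLib.CharTransfer
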